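import Groth.Agent.QCoh.PullbackBC
import Groth.Agent.FComplLib.AffMod
import Mathlib.Algebra.Module.Torsion.Basic
import Mathlib.CategoryTheory.Limits.Shapes.Pullback.Mono

/-!
# Pulled back sections
-/

universe u

set_option backward.isDefEq.respectTransparency false
set_option backward.isDefEq.respectTransparency.types false

open CategoryTheory CategoryTheory.Limits AlgebraicGeometry TopologicalSpace Opposite

noncomputable section

namespace Groth.Agent.ExistEasy

open Groth.Agent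

variable {X Y Z : Scheme.{u}}

theorem pullSec_natural (φ : X ⟶ Y) {M N : Y.Modules} (k : M ⟶ N) {W : X.Opens} {V : Y.Opens}
    (hle : W ≤ φ ⁻¹ᵁ V) (x : Γ(M, V)) :
    ((Scheme.Modules.pullback φ).map k).app W (QCoh.pullSec φ M hle x) =
      QCoh.pullSec φ N hle (k.app V x) := by
  refine (QCoh.map_app_comm ((Scheme.Modules.pullback φ).map k) (homOfLE hle) _).trans ?_
  refine congrArg (((Scheme.Modules.pullback φ).obj N).presheaf.map (homOfLE hle).op) ?_
  exact (congrArg (fun t => Scheme.Modules.Hom.app t V x)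
    ((Scheme.Modules.pullbackPushforwardAdjunction φ).unit.naturality k)).symm

theorem pullSec_comp (f : X ⟶ Y) (g : Y ⟶ Z) (G : Z.Modules) {W : X.Opens} {U : Y.Opens} {V : Z.Opens}
    (h₁ : U ≤ g ⁻¹ᵁ V) (h₂ : W ≤ f ⁻¹ᵁ U) (x : Γ(G, V)) :
    ((Scheme.Modules.pullbackComp f g).hom.app G).app W
        (QCoh.pullSec f ((Scheme.Modules.pullback g).obj G) h₂ (QCoh.pullSec g G h₁ x)) =
      QCoh.pullSec (f ≫ g) G (show W ≤ (f ≫ g) ⁻¹ᵁ V from h₂.trans ((Opens.map f.base).monotone h₁)) x := by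
  have h := unit_conjugateEquiv
    ((Scheme.Modules.pullbackPushforwardAdjunction g).comp
      (Scheme.Modules.pullbackPushforwardAdjunction f))
    (Scheme.Modules.pullbackPushforwardAdjunction (f ≫ g))
    (Scheme.Modules.pullbackComp f g).inv G
  rw [Scheme.Modules.conjugateEquiv_pullbackComp_inv] at h
  let P := (Scheme.Modules.pullback g).obj G
  let Q := (Scheme.Modules.pullback f).obj P
  let z : Γ(P, g ⁻¹ᵁ V) := ((Scheme.Modules.pullbackPushforwardAdjunction g).unit.app G).app V x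
  let w : Γ(Q, f ⁻¹ᵁ (g ⁻¹ᵁ V)) :=
    ((Scheme.Modules.pullbackPushforwardAdjunction f).unit.app P).app (g ⁻¹ᵁ V) z
  let y : Γ((Scheme.Modules.pullback (f ≫ g)).obj G, (f ≫ g) ⁻¹ᵁ V) :=
    ((Scheme.Modules.pullbackPushforwardAdjunction (f ≫ g)).unit.app G).app V x
  have h' : w = ((Scheme.Modules.pullbackComp f g).inv.app G).app (f ⁻¹ᵁ (g ⁻¹ᵁ V)) y :=
    congrArg (fun φ => Scheme.Modules.Hom.app φ V x) h
  let hW : W ≤ f ⁻¹ᵁ (g ⁻¹ᵁ V) := h₂.trans ((Opens.map f.base).monotone h₁)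
  have h1 : QCoh.pullSec f P h₂ (QCoh.pullSec g G h₁ x) = Q.presheaf.map (homOfLE hW).op w := by
    refine (congrArg (Q.presheaf.map (homOfLE h₂).op)
      (QCoh.map_app_comm ((Scheme.Modules.pullbackPushforwardAdjunction f).unit.app P) (homOfLE h₁) z)).trans ?_
    exact QCoh.map_map _ _ _
  rw [h1, h']
  refine (QCoh.map_app_comm ((Scheme.Modules.pullbackComp f g).hom.app G) (homOfLE hW) _).trans ?_
  refine congrArg (((Scheme.Modules.pullback (f ≫ g)).obj G).presheaf.map (homOfLE hW).op) ?_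
  exact congrArg (fun φ => Scheme.Modules.Hom.app φ (f ⁻¹ᵁ (g ⁻¹ᵁ V)) y)
    ((Scheme.Modules.pullbackComp f g).inv_hom_id_app G)

theorem pullSec_congr {f g : X ⟶ Y} (h : f = g) (G : Y.Modules) {W : X.Opens} {V : Y.Opens}
    (hle : W ≤ f ⁻¹ᵁ V) (x : Γ(G, V)) :
    ((Scheme.Modules.pullbackCongr h).hom.app G).app W (QCoh.pullSec f G hle x) =
      QCoh.pullSec g G (h ▸ hle) x := by
  subst h
  rfl

theorem pullSec_res (φ : X ⟶ Y) (M : Y.Modules) {W W' : X.Opens} {V V' : Y.Opens} (hV : V' ≤ V)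
    (hW : W' ≤ W) (hle : W ≤ φ ⁻¹ᵁ V) (hle' : W' ≤ φ ⁻¹ᵁ V') (x : Γ(M, V)) :
    ((Scheme.Modules.pullback φ).obj M).presheaf.map (homOfLE hW).op (QCoh.pullSec φ M hle x) =
      QCoh.pullSec φ M hle' (M.presheaf.map (homOfLE hV).op x) := by
  unfold QCoh.pullSec
  refine (QCoh.map_map _ _ _).trans ?_
  refine Eq.trans ?_ (congrArg (((Scheme.Modules.pullback φ).obj M).presheaf.map (homOfLE hle').op)
    (QCoh.map_app_comm ((Scheme.Modules.pullbackPushforwardAdjunction φ).unit.app M) (homOfLE hV) x)).symm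
  exact (QCoh.map_map (M := (Scheme.Modules.pullback φ).obj M) (homOfLE hle')
    ((Opens.map φ.base).map (homOfLE hV)) _).symm

/-- Base change of a module killed by `Q` along an algebra with a section modulo `Q` is injective. -/
theorem injective_of_isBaseChange {C C' N N' : Type u} [CommRing C] [CommRing C'] [Algebra C C']
    [AddCommGroup N] [Module C N] [AddCommGroup N'] [Module C N'] [Module C' N'] [IsScalarTower C C' N']
    (l : N →ₗ[C] N') (h : IsBaseChange C' l) (Q : Ideal C) (hQ : ∀ q ∈ Q, ∀ x : N, q • x = 0)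
    (r : C' →+* C ⧸ Q) (hr : ∀ c, r (algebraMap C C' c) = Ideal.Quotient.mk Q c) :
    Function.Injective l := by
  have hT : Module.IsTorsionBySet C N (Q : Set C) := fun x q => hQ q q.2 x
  letI : Module (C ⧸ Q) N := hT.module
  letI : Module C' N := Module.compHom N r
  haveI : IsScalarTower C C' N := ⟨fun c c' x => by
    show r (c • c') • x = c • (r c' • x)
    rw [Algebra.smul_def, map_mul, mul_smul, hr]
    rfl⟩
  intro x y hxy
  have := congrArg (h.lift (LinearMap.id : N →ₗ[C] N)) hxy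
  rwa [h.lift_eq, h.lift_eq] at this

/-- ... and surjective if the kernel of the section kills the base change. -/
theorem surjective_of_isBaseChange {C C' N N' : Type u} [CommRing C] [CommRing C'] [Algebra C C']
    [AddCommGroup N] [Module C N] [AddCommGroup N'] [Module C N'] [Module C' N'] [IsScalarTower C C' N']
    (l : N →ₗ[C] N') (h : IsBaseChange C' l) (hgen : ∀ c' : C', ∃ c : C, ∀ y : N', c' • y = c • y) :
    Function.Surjective l := fun z =>
  h.inductionOn z (fun z => ∃ x, l x = z) ⟨0, map_zero l⟩ (fun m => ⟨m, rfl⟩)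
    (fun s n ⟨x, hx⟩ => by
      obtain ⟨c, hc⟩ := hgen s
      exact ⟨c • x, by rw [map_smul, hx, hc]⟩)
    fun a b ⟨x, hx⟩ ⟨y, hy⟩ => ⟨x + y, by rw [map_add, hx, hy]⟩

/-- The unit on sections over affine opens, as a linear map. -/
theorem exists_pullSec_baseChange (φ : X ⟶ Y) {M : Y.Modules} (hM : Coh.IsQCoh M) {W : X.Opens}
    (hW : IsAffineOpen W) {V : Y.Opens} (hV : IsAffineOpen V) (hle : W ≤ φ ⁻¹ᵁ V) :
    letI : Algebra Γ(Y, V) Γ(X, W) := (φ.appLE V W hle).hom.toAlgebra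
    letI : Module Γ(Y, V) Γ((Scheme.Modules.pullback φ).obj M, W) :=
      Module.compHom _ (φ.appLE V W hle).hom
    haveI : IsScalarTower Γ(Y, V) Γ(X, W) Γ((Scheme.Modules.pullback φ).obj M, W) :=
      ⟨fun a b c => mul_smul ((φ.appLE V W hle).hom a) b c⟩
    ∃ l : Γ(M, V) →ₗ[Γ(Y, V)] Γ((Scheme.Modules.pullback φ).obj M, W),
      (∀ x, l x = QCoh.pullSec φ M hle x) ∧ IsBaseChange Γ(X, W) l := by
  letI : Algebra Γ(Y, V) Γ(X, W) := (φ.appLE V W hle).hom.toAlgebra
  letI : Module Γ(Y, V) Γ((Scheme.Modules.pullback φ).obj M, W) :=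
    Module.compHom _ (φ.appLE V W hle).hom
  haveI : IsScalarTower Γ(Y, V) Γ(X, W) Γ((Scheme.Modules.pullback φ).obj M, W) :=
    ⟨fun a b c => mul_smul ((φ.appLE V W hle).hom a) b c⟩
  let l : Γ(M, V) →ₗ[Γ(Y, V)] Γ((Scheme.Modules.pullback φ).obj M, W) :=
    { toFun := QCoh.pullSec φ M hle
      map_add' := QCoh.pullSec_add φ M hle
      map_smul' := fun r x => QCoh.pullSec_smul φ M hle r x }
  exact ⟨l, fun x => rfl, QCoh.isBaseChange_pullback hV φ hW hM hle (fun r => rfl) l fun x => rfl⟩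

/-- Sections of modules killed modulo a section do not change. -/
theorem injective_pullSec (φ : X ⟶ Y) {M : Y.Modules} (hM : Coh.IsQCoh M) {W : X.Opens}
    (hW : IsAffineOpen W) {V : Y.Opens} (hV : IsAffineOpen V) (hle : W ≤ φ ⁻¹ᵁ V) (Q : Ideal Γ(Y, V))
    (hQ : ∀ q ∈ Q, ∀ x : Γ(M, V), q • x = 0) (r : Γ(X, W) →+* Γ(Y, V) ⧸ Q)
    (hr : ∀ c, r (φ.appLE V W hle c) = Ideal.Quotient.mk Q c) :
    Function.Injective (QCoh.pullSec φ M hle) := by
  letI : Algebra Γ(Y, V) Γ(X, W) := (φ.appLE V W hle).hom.toAlgebra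
  letI : Module Γ(Y, V) Γ((Scheme.Modules.pullback φ).obj M, W) :=
    Module.compHom _ (φ.appLE V W hle).hom
  haveI : IsScalarTower Γ(Y, V) Γ(X, W) Γ((Scheme.Modules.pullback φ).obj M, W) :=
    ⟨fun a b c => mul_smul ((φ.appLE V W hle).hom a) b c⟩
  obtain ⟨l, hl, hb⟩ := exists_pullSec_baseChange φ hM hW hV hle
  have := injective_of_isBaseChange l hb Q hQ r hr
  intro a b hab
  exact this (by rw [hl, hl, hab])

theorem surjective_pullSec (φ : X ⟶ Y) {M : Y.Modules} (hM : Coh.IsQCoh M) {W : X.Opens}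
    (hW : IsAffineOpen W) {V : Y.Opens} (hV : IsAffineOpen V) (hle : W ≤ φ ⁻¹ᵁ V)
    (hgen : ∀ c' : Γ(X, W), ∃ c : Γ(Y, V), ∀ y : Γ((Scheme.Modules.pullback φ).obj M, W),
      c' • y = φ.appLE V W hle c • y) :
    Function.Surjective (QCoh.pullSec φ M hle) := by
  letI : Algebra Γ(Y, V) Γ(X, W) := (φ.appLE V W hle).hom.toAlgebra
  letI : Module Γ(Y, V) Γ((Scheme.Modules.pullback φ).obj M, W) :=
    Module.compHom _ (φ.appLE V W hle).hom
  haveI : IsScalarTower Γ(Y, V) Γ(X, W) Γ((Scheme.Modules.pullback φ).obj M, W) :=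
    ⟨fun a b c => mul_smul ((φ.appLE V W hle).hom a) b c⟩
  obtain ⟨l, hl, hb⟩ := exists_pullSec_baseChange φ hM hW hV hle
  intro z
  obtain ⟨x, hx⟩ := surjective_of_isBaseChange l hb hgen z
  exact ⟨x, (hl x).symm.trans hx⟩

/-- Sections of an inverse image over an affine mapping isomorphically onto an affine. -/
theorem bijective_pullSec_of_isIso (φ : X ⟶ Y) {M : Y.Modules} (hM : Coh.IsQCoh M) {W : X.Opens}
    (hW : IsAffineOpen W) {V : Y.Opens} (hV : IsAffineOpen V) (hle : W ≤ φ ⁻¹ᵁ V)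
    (hb : Function.Bijective (φ.appLE V W hle)) :
    Function.Bijective (QCoh.pullSec φ M hle) := by
  let e := RingEquiv.ofBijective (φ.appLE V W hle).hom hb
  refine ⟨injective_pullSec φ hM hW hV hle ⊥ (fun q hq x => by rw [Submodule.mem_bot] at hq; rw [hq, zero_smul])
    ((Ideal.Quotient.mk ⊥).comp e.symm.toRingHom) (fun c => congrArg (Ideal.Quotient.mk ⊥) (e.symm_apply_apply c)),
    surjective_pullSec φ hM hW hV hle fun c' => ?_⟩
  obtain ⟨c, rfl⟩ := hb.2 c'
  exact ⟨c, fun y => rfl⟩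

/-- A fibre product over an affine open of the target is affine. -/
theorem isAffineOpen_preimage_fst {X Y T : Scheme.{u}} [IsAffine T] (f : X ⟶ Y) (π : T ⟶ Y) {V : Y.Opens}
    (hV : IsAffineOpen V) (hπ : (⊤ : T.Opens) ≤ π ⁻¹ᵁ V) {W : X.Opens} (hW : IsAffineOpen W)
    (hle : W ≤ f ⁻¹ᵁ V) : IsAffineOpen ((pullback.fst f π) ⁻¹ᵁ W) := by
  haveI : IsAffine (W : Scheme.{u}) := hW
  haveI : IsAffine (V : Scheme.{u}) := hV
  let a : (W : Scheme.{u}) ⟶ V := f.resLE V W hle
  let p : T ⟶ (V : Scheme.{u}) := T.topIso.inv ≫ π.resLE V ⊤ hπ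
  have hp : p ≫ V.ι = π := by
    simp [p]
  have ha : a ≫ V.ι = W.ι ≫ f := Scheme.Hom.resLE_comp_ι _ _
  have h1 : IsPullback (pullback.fst a p) (pullback.snd a p) (a ≫ V.ι) (p ≫ V.ι) :=
    .of_isLimit (pullbackIsPullbackOfCompMono a p V.ι)
  rw [ha, hp] at h1
  have h2 := (((isPullback_morphismRestrict (pullback.fst f π) W).flip).paste_horiz
    (IsPullback.of_hasPullback f π).flip).flip
  exact IsAffine.of_isIso (h2.isoIsPullback _ _ h1).hom

end Groth.Agent.ExistEasy
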