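import Groth.Agent.ExistEasy.PP.FFSheaf
import Groth.Agent.ExistEasy.PP.PullSec
import Groth.Agent.QCoh.RpushProper
import Groth.Agent.SheafHomX.Coherent
import Groth.Agent.AmpleVan.Existence
import Groth.Agent.AmpleX.QuasiAffine
import Groth.Agent.FormalFib6.Cplt
import Groth.Agent.FComplLib.AdicUnit

/-!
# Preparations for the comparison over a completed affine open
-/

universe u

set_option backward.isDefEq.respectTransparency false
set_option backward.isDefEq.respectTransparency.types false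

open CategoryTheory CategoryTheory.Limits AlgebraicGeometry TopologicalSpace Opposite

noncomputable section

namespace Groth.Agent.ExistEasy

open Groth.Agent Groth.Agent.FFun

/-- Direct images of coherent modules by proper maps to locally Noetherian schemes are coherent. -/
theorem isCoh_pushforward_proper {X Y : Scheme.{u}} (f : X ⟶ Y) [IsProper f] [IsLocallyNoetherian Y]
    {F : X.Modules} (hF : Coh.IsCoh F) : Coh.IsCoh ((Scheme.Modules.pushforward f).obj F) := by
  haveI := SpObjSS.enoughInjectives_of_hasInjectiveResolutions (C := X.Modules)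
  haveI := QCoh.preservesFiniteLimits_push f
  exact SheafHomX.isCoh_of_iso ((Scheme.Modules.pushforward f).rightDerivedZeroIsoSelf.app F)
    (QCoh.isCoh_Rpush_of_finiteness f hF 0 fun A _ _ Z _ _ N hN n => Groth.Agent.S0002.result A Z N hN n)

variable {A : Type u} [CommRing A] {X Y : Scheme.{u}} [X.Over (Spec (CommRingCat.of A))]
  [Y.Over (Spec (CommRingCat.of A))]

theorem appLE_φsec (φ : X ⟶ Y) (hφ : φ ≫ (Y ↘ Spec (CommRingCat.of A)) = X ↘ Spec (CommRingCat.of A))
    {V : Y.Opens} {W : X.Opens} (e : W ≤ φ ⁻¹ᵁ V) (a : A) :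
    φ.appLE V W e (φsec V a) = φsec W a := by
  have h : (Y ↘ Spec (CommRingCat.of A)).appLE ⊤ V le_top ≫ φ.appLE V W e =
      (φ ≫ (Y ↘ Spec (CommRingCat.of A))).appLE ⊤ W le_top := by
    rw [Scheme.Hom.appLE_comp_appLE]
  rw [hφ] at h
  exact congr($h ((Scheme.ΓSpecIso (CommRingCat.of A)).inv a))

theorem smul_eq_zero_of_killed {T : Y.Modules} {J : Ideal A} (hT : Formal.KilledBy J T) {U : Y.Opens}
    {r : Γ(Y, U)} (hr : r ∈ J.map (φsec U)) (t : Γ(T, U)) : r • t = 0 := by
  refine Submodule.span_induction (p := fun r _ => ∀ t : Γ(T, U), r • t = 0) ?_ ?_ ?_ ?_ hr t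
  · rintro _ ⟨a, ha, rfl⟩ t
    refine (FFun.smulMod_app T a U t).symm.trans ?_
    rw [hT a ha]
    rfl
  · intro t; rw [zero_smul]
  · intro r r' _ _ h h' t; rw [add_smul, h, h', add_zero]
  · intro c r _ h t; rw [smul_eq_mul, mul_comm, mul_smul]; exact h _

/-- The functions on the spectrum of a ring over an affine open. -/
theorem appLE_specMap_fromSpec {B : Type u} [CommRing B] {V : Y.Opens} (hV : IsAffineOpen V)
    (ρ : Γ(Y, V) →+* B) (e : (⊤ : (Spec (CommRingCat.of B)).Opens) ≤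
      (Spec.map (CommRingCat.ofHom ρ) ≫ hV.fromSpec) ⁻¹ᵁ V) :
    (Spec.map (CommRingCat.ofHom ρ) ≫ hV.fromSpec).appLE V ⊤ e ≫
      (Scheme.ΓSpecIso (CommRingCat.of B)).hom = CommRingCat.ofHom ρ := by
  have e₁ : (⊤ : (Spec Γ(Y, V)).Opens) ≤ hV.fromSpec ⁻¹ᵁ V := hV.fromSpec_preimage_self.ge
  have h1 : hV.fromSpec.appLE V ⊤ e₁ = (Scheme.ΓSpecIso Γ(Y, V)).inv := by
    rw [Scheme.Hom.appLE, hV.fromSpec_app_self, Category.assoc, ← Functor.map_comp,
      ← op_comp, Subsingleton.elim (_ ≫ _) (𝟙 (⊤ : (Spec Γ(Y, V)).Opens)), op_id,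
      CategoryTheory.Functor.map_id, Category.comp_id]
  rw [← Scheme.Hom.appLE_comp_appLE (Spec.map (CommRingCat.ofHom ρ)) hV.fromSpec V ⊤ ⊤ e₁ le_top, h1,
    show (Spec.map (CommRingCat.ofHom ρ)).appLE ⊤ ⊤ le_top = (Spec.map (CommRingCat.ofHom ρ)).appTop from
      ((Spec.map (CommRingCat.ofHom ρ)).app_eq_appLE (U := ⊤)).symm, Category.assoc,
    Scheme.ΓSpecIso_naturality]
  exact Iso.inv_hom_id_assoc _ _

omit [X.Over (Spec (CommRingCat.of A))] in
/-- Coherent formal modules on the spectrum of a complete ring come from coherent modules. -/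
theorem exists_algebraization_affine {B : Type u} [CommRing B] [IsNoetherianRing B] {I : Ideal B}
    [IsAdicComplete I B] (G : ℕᵒᵖ ⥤ (Spec (CommRingCat.of B)).Modules)
    (hG : @Formal.IsCohFormal B _ _ ⟨𝟙 _⟩ I G) :
    ∃ M : (Spec (CommRingCat.of B)).Modules, Coh.IsCoh M ∧
      Nonempty (@Formal.completion B _ _ ⟨𝟙 _⟩ I M ≅ G) := by
  letI : (Spec (CommRingCat.of B)).Over (Spec (CommRingCat.of B)) := ⟨𝟙 _⟩
  haveI : IsProper ((Spec (CommRingCat.of B)) ↘ Spec (CommRingCat.of B)) :=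
    inferInstanceAs (IsProper (𝟙 (Spec (CommRingCat.of B))))
  exact AmpleVan.exists_algebraization
    (AmpleX.isAmple_of_isQuasiAffine InvX.isInvertible_structureModule) hG

omit [X.Over (Spec (CommRingCat.of A))] [Y.Over (Spec (CommRingCat.of A))] in
/-- Base change of an isomorphism over an open. -/
theorem isIso_restrict_snd {T : Scheme.{u}} (f : X ⟶ Y) (π : T ⟶ Y) {U : Y.Opens} [IsIso (f ∣_ U)]
    {D : T.Opens} (hD : D ≤ π ⁻¹ᵁ U) : IsIso ((pullback.snd f π) ∣_ D) := by
  let k : (D : Scheme.{u}) ⟶ U := π.resLE U D hD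
  have hk : k ≫ U.ι = D.ι ≫ π := Scheme.Hom.resLE_comp_ι _ _
  have big := (isPullback_morphismRestrict (pullback.snd f π) D).flip.paste_horiz
    (IsPullback.of_hasPullback f π)
  have hr := (isPullback_morphismRestrict f U).flip
  let l : ((pullback.snd f π ⁻¹ᵁ D : (pullback f π).Opens) : Scheme.{u}) ⟶ (f ⁻¹ᵁ U : X.Opens) :=
    hr.lift ((pullback.snd f π ⁻¹ᵁ D).ι ≫ pullback.fst f π) (pullback.snd f π ∣_ D ≫ k)
      (by rw [Category.assoc _ k, hk, big.w])
  have big' : IsPullback (l ≫ (f ⁻¹ᵁ U).ι) (pullback.snd f π ∣_ D) f (k ≫ U.ι) := by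
    rw [hk, hr.lift_fst]; exact big
  have left := IsPullback.of_right big' (hr.lift_snd _ _ _) hr
  exact MorphismProperty.of_isPullback (P := MorphismProperty.isomorphisms Scheme) left
    (inferInstance : IsIso (f ∣_ U))

omit [X.Over (Spec (CommRingCat.of A))] [Y.Over (Spec (CommRingCat.of A))] in
theorem bijective_app_of_isIso_restrict (f : X ⟶ Y) {D : Y.Opens} [IsIso (f ∣_ D)] :
    Function.Bijective (f.app D) := by
  have h := (morphismRestrict_app f D ⊤)
  have hb : Function.Bijective ((f ∣_ D).app ⊤) := ConcreteCategory.bijective_of_isIso _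
  rw [h] at hb
  have hb2 : Function.Bijective (f.app (D.ι ''ᵁ ⊤)) := by
    refine (Function.Bijective.of_comp_iff' (ConcreteCategory.bijective_of_isIso
      (X.presheaf.map (eqToHom (image_morphismRestrict_preimage f D ⊤)).op)) _).1 ?_
    exact hb
  rwa [Scheme.Opens.ι_image_top] at hb2

end Groth.Agent.ExistEasy
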