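import Groth.Agent.ExistEasy.Tricky
import Groth.Agent.Algz7.PullbackFormal

/-!
# Changing the base ring, and inverse images, of the systems `M / JⁿM`
-/

universe u

set_option backward.isDefEq.respectTransparency false
set_option backward.isDefEq.respectTransparency.types false

open CategoryTheory CategoryTheory.Limits AlgebraicGeometry TopologicalSpace Opposite

noncomputable section

namespace Groth.Agent.ExistEasy

open Groth.Agent Groth.Agent.FFun

theorem toGlobal_specMap {A B : Type u} [CommRing A] [CommRing B] {X : Scheme.{u}}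
    (p : X ⟶ Spec (CommRingCat.of B)) (q : X ⟶ Spec (CommRingCat.of A)) (θ : A →+* B)
    (h : p ≫ Spec.map (CommRingCat.ofHom θ) = q) (a : A) : Coh.toGlobal q a = Coh.toGlobal p (θ a) := by
  subst h
  show ((Scheme.ΓSpecIso (CommRingCat.of A)).inv ≫ (p ≫ Spec.map (CommRingCat.ofHom θ)).appTop) a = _
  rw [Scheme.Hom.comp_appTop, ← Scheme.ΓSpecIso_inv_naturality_assoc]
  rfl

section Base

variable {A B : Type u} [CommRing A] [CommRing B] {X : Scheme.{u}}
  [X.Over (Spec (CommRingCat.of A))] [X.Over (Spec (CommRingCat.of B))] (θ : A →+* B)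
  (hθ : (X ↘ Spec (CommRingCat.of B)) ≫ Spec.map (CommRingCat.ofHom θ) = X ↘ Spec (CommRingCat.of A))

include hθ in
theorem smulMod_base (M : X.Modules) (a : A) : Formal.smulMod A M a = Formal.smulMod B M (θ a) := by
  show Formal.smulModΓ M _ = Formal.smulModΓ M _
  rw [toGlobal_specMap _ _ θ hθ a]

include hθ in
theorem le_killIdeal_iff (J : Ideal A) (T : X.Modules) :
    J ≤ killIdeal T ↔ J.map θ ≤ killIdeal T := by
  rw [Ideal.map_le_iff_le_comap]
  constructor
  · intro h a ha
    rw [Ideal.mem_comap, mem_killIdeal, ← smulMod_base θ hθ]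
    exact h ha
  · intro h a ha
    rw [mem_killIdeal, smulMod_base θ hθ]
    exact h ha

/-- `M / J M` does not depend on the base ring. -/
def baseIso (J : Ideal A) (K : Ideal B) (hJK : J.map θ = K) (M : X.Modules) :
    modJ J M ≅ modJ K M where
  hom := descJ (modJπ K M) ((le_killIdeal_iff θ hθ J (modJ K M)).2 (hJK.le.trans (le_killIdeal_modJ K M)))
  inv := descJ (modJπ J M) (hJK.ge.trans ((le_killIdeal_iff θ hθ J (modJ J M)).1 (le_killIdeal_modJ J M)))
  hom_inv_id := by rw [← cancel_epi (modJπ J M), π_descJ_assoc, π_descJ, Category.comp_id]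
  inv_hom_id := by rw [← cancel_epi (modJπ K M), π_descJ_assoc, π_descJ, Category.comp_id]

theorem π_baseIso (J : Ideal A) (K : Ideal B) (hJK : J.map θ = K) (M : X.Modules) :
    modJπ J M ≫ (baseIso θ hθ J K hJK M).hom = modJπ K M := π_descJ _ ((le_killIdeal_iff θ hθ J (modJ K M)).2 (hJK.le.trans (le_killIdeal_modJ K M)))

include hθ in
theorem killedBy_base {J : Ideal A} {T : X.Modules} (h : Formal.KilledBy J T) :
    Formal.KilledBy (J.map θ) T :=
  fun _ hb => mem_killIdeal.1 ((le_killIdeal_iff θ hθ J T).1 (fun _ ha => h _ ha) hb)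

include hθ in
theorem isQuot_base {J : Ideal A} {M N : X.Modules} {g : M ⟶ N} (hg : Algz7.IsQuot J g) :
    Algz7.IsQuot (J.map θ) g := by
  haveI := hg.epi
  refine Algz7.IsQuot.mk' g (killedBy_base θ hθ (Algz7.killedBy_of_isQuot hg)) fun {P} φ hφ => ?_
  refine hg.desc φ ?_
  apply Sigma.hom_ext
  intro a
  rw [comp_zero, ← Category.assoc, Formal.smulFamily, Sigma.ι_desc, smulMod_base θ hθ]
  exact Algz7.smulMod_comp_eq_zero hφ (Ideal.mem_map_of_mem θ a.2)

include hθ in
theorem isCohFormal_base {I : Ideal A} {G : ℕᵒᵖ ⥤ X.Modules} (hG : Formal.IsCohFormal I G) :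
    Formal.IsCohFormal (I.map θ) G := by
  refine ⟨hG.1, fun n => ?_, fun n => ?_⟩
  · rw [← Ideal.map_pow]
    exact killedBy_base θ hθ (hG.2.1 n)
  · have h := isQuot_base θ hθ (hG.2.2 n)
    generalize hK : (I ^ (n + 1)).map θ = K at h
    rw [Ideal.map_pow] at hK
    subst hK
    exact h

theorem completion_succ (I : Ideal A) (M : X.Modules) (n : ℕ) :
    modJπ (I ^ (n + 1 + 1)) M ≫ (Formal.completion I M).map (homOfLE (Nat.le_succ n)).op =
      modJπ (I ^ (n + 1)) M := by
  rw [Algz7.completion_map_succ]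
  exact Formal.modPowπ_trans I (n + 1) M

/-- The completion does not depend on the base ring. -/
def baseCompIso (I : Ideal A) (M : X.Modules) :
    Formal.completion I M ≅ Formal.completion (I.map θ) M :=
  NatIso.ofComponents
    (fun n => baseIso θ hθ (I ^ (n.unop + 1)) ((I.map θ) ^ (n.unop + 1)) (Ideal.map_pow θ I _) M)
    (fun {n m} f => by
      obtain ⟨n⟩ := n
      obtain ⟨m⟩ := m
      have h : m ≤ n := leOfHom f.unop
      show ARSys.tr (Formal.completion I M) h ≫ _ = _ ≫ ARSys.tr (Formal.completion (I.map θ) M) h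
      rw [completion_map_le, completion_map_le]
      refine (cancel_epi (modJπ (I ^ (n + 1)) M)).1 ?_
      show modJπ _ M ≫ trJ _ M ≫ (baseIso θ hθ _ _ _ M).hom = modJπ _ M ≫ (baseIso θ hθ _ _ _ M).hom ≫ trJ _ M
      rw [π_descJ_assoc, reassoc_of% (π_baseIso θ hθ (I ^ (n + 1)) ((I.map θ) ^ (n + 1))
        (Ideal.map_pow θ I _) M), π_descJ]
      exact π_baseIso θ hθ _ _ _ M)

theorem π_baseCompIso (I : Ideal A) (M : X.Modules) (n : ℕ) :
    modJπ (I ^ (n + 1)) M ≫ (baseCompIso θ hθ I M).hom.app (op n) = modJπ ((I.map θ) ^ (n + 1)) M :=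
  π_baseIso θ hθ (I ^ (n + 1)) ((I.map θ) ^ (n + 1)) (Ideal.map_pow θ I _) M

end Base

section Pull

variable {A : Type u} [CommRing A] {X Y : Scheme.{u}} [X.Over (Spec (CommRingCat.of A))]
  [Y.Over (Spec (CommRingCat.of A))] (f : X ⟶ Y)
  (hf : f ≫ (Y ↘ Spec (CommRingCat.of A)) = X ↘ Spec (CommRingCat.of A))

include hf in
theorem le_killIdeal_pullback {J : Ideal A} {T : Y.Modules} (h : J ≤ killIdeal T) :
    J ≤ killIdeal ((Scheme.Modules.pullback f).obj T) := fun a ha =>
  mem_killIdeal.2 (Algz7.killedBy_pullback f hf (fun b hb => mem_killIdeal.1 (h hb)) a ha)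

/-- The map from `f^*M / J` to `f^*(M / J)`. -/
def pullModJ (J : Ideal A) (M : Y.Modules) :
    modJ J ((Scheme.Modules.pullback f).obj M) ⟶ (Scheme.Modules.pullback f).obj (modJ J M) :=
  descJ ((Scheme.Modules.pullback f).map (modJπ J M)) (le_killIdeal_pullback f hf (le_killIdeal_modJ J M))

theorem π_pullModJ (J : Ideal A) (M : Y.Modules) :
    modJπ J ((Scheme.Modules.pullback f).obj M) ≫ pullModJ f hf J M =
      (Scheme.Modules.pullback f).map (modJπ J M) := π_descJ _ _

instance isIso_pullModJ (J : Ideal A) (M : Y.Modules) : IsIso (pullModJ f hf J M) := by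
  have hq : Algz7.IsQuot J (modJπ J M) := by
    refine Algz7.IsQuot.mk' _ (fun a ha => mem_killIdeal.1 (le_killIdeal_modJ J M ha)) fun {P} φ hφ => ?_
    exact ⟨cokernel.desc _ φ hφ, cokernel.π_desc _ _ _⟩
  have hp := Algz7.IsQuot.pullback f hf hq
  haveI := hp.epi
  obtain ⟨ψ, hψ⟩ := hp.desc (modJπ J ((Scheme.Modules.pullback f).obj M)) (cokernel.condition _)
  refine ⟨ψ, ?_, ?_⟩
  · rw [← cancel_epi (modJπ J ((Scheme.Modules.pullback f).obj M)), ← Category.assoc, π_pullModJ, hψ,
      Category.comp_id]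
  · rw [← cancel_epi ((Scheme.Modules.pullback f).map (modJπ J M)), ← Category.assoc, hψ, π_pullModJ,
      Category.comp_id]

/-- Completion commutes with inverse images. -/
def pullCompIso (I : Ideal A) (M : Y.Modules) :
    Formal.completion I ((Scheme.Modules.pullback f).obj M) ≅
      Formal.completion I M ⋙ Scheme.Modules.pullback f :=
  NatIso.ofComponents (fun n => asIso (pullModJ f hf (I ^ (n.unop + 1)) M))
    (fun {n m} φ => by
      obtain ⟨n⟩ := n
      obtain ⟨m⟩ := m
      have h : m ≤ n := leOfHom φ.unop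
      show ARSys.tr (Formal.completion I _) h ≫ _ =
        _ ≫ (Scheme.Modules.pullback f).map (ARSys.tr (Formal.completion I M) h)
      rw [completion_map_le, completion_map_le]
      refine (cancel_epi (modJπ (I ^ (n + 1)) ((Scheme.Modules.pullback f).obj M))).1 ?_
      show modJπ _ _ ≫ trJ _ _ ≫ pullModJ f hf _ M = modJπ _ _ ≫ pullModJ f hf _ M ≫
        (Scheme.Modules.pullback f).map (trJ _ M)
      rw [π_descJ_assoc, π_pullModJ, reassoc_of% (π_pullModJ f hf (I ^ (n + 1)) M), ← Functor.map_comp,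
        π_descJ])

theorem π_pullCompIso (I : Ideal A) (M : Y.Modules) (n : ℕ) :
    modJπ (I ^ (n + 1)) ((Scheme.Modules.pullback f).obj M) ≫ (pullCompIso f hf I M).hom.app (op n) =
      (Scheme.Modules.pullback f).map (modJπ (I ^ (n + 1)) M) :=
  π_pullModJ f hf _ M

end Pull

end Groth.Agent.ExistEasy
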