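import Groth.Agent.ExistEasy.PP.Push
import Groth.Agent.ExistEasy.ChowNR.Exists
import Groth.Agent.S0061
import Groth.Agent.S0060

/-!
# Grothendieck's existence theorem for proper schemes
-/

universe u

set_option backward.isDefEq.respectTransparency false
set_option backward.isDefEq.respectTransparency.types false

open CategoryTheory CategoryTheory.Limits AlgebraicGeometry TopologicalSpace Opposite

noncomputable section

namespace Groth.Agent.ExistEasy

open Groth.Agent Groth.Agent.FFun

theorem exists_affine_mem {X : Scheme.{u}} (x : X) : ∃ U : X.affineOpens, x ∈ U.1 := by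
  obtain ⟨V, hV, hx, -⟩ := exists_isAffineOpen_mem_and_subset (x := x) (U := ⊤) trivial
  exact ⟨⟨V, hV⟩, hx⟩

theorem isIso_ηK_of_killed {X : Scheme.{u}} [AlgebraicGeometry.IsNoetherian X] (K : X.IdealSheafData)
    {M : X.Modules} (hM : Coh.IsQCoh M) (hK : ClSub.KilledByIdeal K M) : IsIso (ηK K M) := by
  haveI := epi_ηK K hM
  haveI : Mono (ηK K M) := by
    refine Preadditive.mono_of_kernel_zero (hom_eq_zero_of_cover
      (QCoh.isQCoh_kernel hM (isQCoh_TK K hM) _) hM _ (fun U : X.affineOpens => U.1) (fun U => U.2)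
      exists_affine_mem fun U t => ?_)
    have h1 : (ηK K M).app U.1 ((kernel.ι (ηK K M)).app U.1 t) = 0 :=
      congr(($(kernel.condition (ηK K M))).app U.1 t)
    exact Submodule.smul_induction_on (((ηK_app K hM U).2 _).1 h1) (fun a ha z _ => hK U a ha z)
      fun a b ha hb => by rw [ha, hb, add_zero]
  exact isIso_of_mono_of_epi _

variable {A : Type u} [CommRing A]

section Closed

variable {X W : Scheme.{u}} [X.Over (Spec (CommRingCat.of A))] [W.Over (Spec (CommRingCat.of A))]
  (k : W ⟶ X) [IsClosedImmersion k]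
  (hk : k ≫ (X ↘ Spec (CommRingCat.of A)) = W ↘ Spec (CommRingCat.of A))

include hk in
theorem isIso_cMapJ_closed (J : Ideal A) {M : W.Modules} (hM : Coh.IsCoh M) [AlgebraicGeometry.IsNoetherian X]
    [AlgebraicGeometry.IsNoetherian W] : IsIso (cMapJ k hk J M) := by
  have hP : Coh.IsCoh ((Scheme.Modules.pushforward k).obj M) := QCoh.isCoh_pushforward_finite k hM
  have hQ : Coh.IsQCoh ((Scheme.Modules.pushforward k).obj (modJ J M)) :=
    QCoh.isQCoh_pushforward k (isCoh_modJ _ hM).1
  have hsrc := (isCoh_modJ J hP).1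
  haveI : Epi (cMapJ k hk J M) := by
    refine Abelian.epi_of_cokernel_π_eq_zero _ (hom_eq_zero_of_cover hQ (QCoh.isQCoh_cokernel hsrc hQ _) _
      (fun U : X.affineOpens => U.1) (fun U => U.2) exists_affine_mem fun U t => ?_)
    haveI : Epi (modJπ J M) := coequalizer.π_epi
    obtain ⟨m, rfl⟩ := QCoh.app_surjective_of_epi hM.1 (isCoh_modJ _ hM).1 (modJπ J M) (U.2.preimage k) t
    refine (congrArg ((cokernel.π (cMapJ k hk J M)).app U.1) (congr($(π_cMapJ k hk J M).app U.1 m)).symm).trans ?_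
    exact congr($(cokernel.condition (cMapJ k hk J M)).app U.1
      ((modJπ J ((Scheme.Modules.pushforward k).obj M)).app U.1 m))
  haveI : Mono (cMapJ k hk J M) := by
    refine Preadditive.mono_of_kernel_zero (hom_eq_zero_of_cover (QCoh.isQCoh_kernel hsrc hQ _) hsrc _
      (fun U : X.affineOpens => U.1) (fun U => U.2) exists_affine_mem fun U t => ?_)
    haveI : Epi (modJπ J ((Scheme.Modules.pushforward k).obj M)) := coequalizer.π_epi
    obtain ⟨m, hm⟩ := QCoh.app_surjective_of_epi hP.1 hsrc (modJπ J ((Scheme.Modules.pushforward k).obj M)) U.2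
      ((kernel.ι (cMapJ k hk J M)).app U.1 t)
    rw [← hm]
    have h0 : (modJπ J M).app (k ⁻¹ᵁ U.1) m = 0 := by
      refine (congr($(π_cMapJ k hk J M).app U.1 m)).symm.trans ?_
      refine (congrArg ((cMapJ k hk J M).app U.1) hm).trans ?_
      exact congr($(kernel.condition (cMapJ k hk J M)).app U.1 t)
    refine π_app_eq_zero _ _ _ ?_
    have h1 := mem_of_π_app_eq_zero hM.1 J (U.2.preimage k) h0
    rw [show J.map (φsec (A := A) (k ⁻¹ᵁ U.1)) = (J.map (φsec (A := A) U.1)).map (k.app U.1).hom by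
      rw [Ideal.map_map]
      congr 1
      refine RingHom.ext fun a => ?_
      show _ = k.app U.1 (φsec U.1 a)
      rw [Scheme.Hom.app_eq_appLE, appLE_φsec k hk]] at h1
    refine Submodule.smul_induction_on
      (p := fun v : Γ(M, k ⁻¹ᵁ U.1) => (show Γ((Scheme.Modules.pushforward k).obj M, U.1) from v) ∈
        J.map (φsec (A := A) U.1) • (⊤ : Submodule Γ(X, U.1) Γ((Scheme.Modules.pushforward k).obj M, U.1)))
      h1 (fun r hr v _ => ?_) fun v v' hv hv' => add_mem hv hv'
    refine Submodule.span_induction (p := fun r _ => ∀ v : Γ(M, k ⁻¹ᵁ U.1),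
      (show Γ((Scheme.Modules.pushforward k).obj M, U.1) from r • v) ∈
        J.map (φsec (A := A) U.1) • (⊤ : Submodule Γ(X, U.1) Γ((Scheme.Modules.pushforward k).obj M, U.1)))
      ?_ ?_ ?_ ?_ hr v
    · rintro _ ⟨b, hb, rfl⟩ v
      exact Submodule.smul_mem_smul (M := Γ((Scheme.Modules.pushforward k).obj M, U.1)) hb Submodule.mem_top
    · intro v; rw [zero_smul]; exact zero_mem _
    · intro a b _ _ ha hb v; rw [add_smul]; exact add_mem (ha v) (hb v)
    · intro a b _ hb v; rw [smul_eq_mul, mul_comm, mul_smul]; exact hb _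
  exact isIso_of_mono_of_epi _

/-- Completion commutes with direct images by closed immersions. -/
def pushCompIso (I : Ideal A) (M : W.Modules) [AlgebraicGeometry.IsNoetherian X]
    [AlgebraicGeometry.IsNoetherian W] (hM : Coh.IsCoh M) :
    Formal.completion I ((Scheme.Modules.pushforward k).obj M) ≅
      Formal.completion I M ⋙ Scheme.Modules.pushforward k :=
  NatIso.ofComponents (fun n =>
      haveI := isIso_cMapJ_closed k hk (I ^ (n.unop + 1)) hM
      asIso (cMapJ k hk (I ^ (n.unop + 1)) M))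
    (fun {n m} φ => by
      obtain ⟨n⟩ := n
      obtain ⟨m⟩ := m
      have h : m ≤ n := leOfHom φ.unop
      show ARSys.tr (Formal.completion I _) h ≫ cMapJ k hk _ M =
        cMapJ k hk _ M ≫ (Scheme.Modules.pushforward k).map (ARSys.tr (Formal.completion I M) h)
      rw [completion_map_le, completion_map_le]
      exact trN_cMapJ k hk I M h)

end Closed

variable [IsNoetherianRing A] (I : Ideal A) [IsAdicComplete I A]

/-- Existence for all closed subschemes with image in a given closed subset. -/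
theorem exists_algebraization_proper_aux (X : Scheme.{u}) [AlgebraicGeometry.IsNoetherian X]
    (Z : Closeds X) :
    ∀ (Y : Scheme.{u}) [Y.Over (Spec (CommRingCat.of A))] [IsProper (Y ↘ Spec (CommRingCat.of A))]
      (j : Y ⟶ X) [IsClosedImmersion j], Set.range j ⊆ (Z : Set X) →
      ∀ G : ℕᵒᵖ ⥤ Y.Modules, Formal.IsCohFormal I G →
        ∃ M : Y.Modules, Coh.IsCoh M ∧ Nonempty (Formal.completion I M ≅ G) := by
  induction Z using WellFoundedLT.induction with
  | _ Z ih =>
  intro Y _ _ j _ hj G hG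
  haveI : CompactSpace Y := QuasiCompact.compactSpace_of_compactSpace (Y ↘ Spec (CommRingCat.of A))
  haveI : IsLocallyNoetherian Y := LocallyOfFiniteType.isLocallyNoetherian (Y ↘ Spec (CommRingCat.of A))
  haveI : AlgebraicGeometry.IsNoetherian Y := { __ := ‹IsLocallyNoetherian Y›, __ := ‹CompactSpace Y› }
  rcases isEmpty_or_nonempty Y with hY | hY
  · have hz : ∀ N : Y.Modules, Coh.IsQCoh N → IsZero N := fun N hN =>
      QCoh.isZero_of_cover hN (ι := PEmpty.{1}) (fun i => i.elim) (fun i => i.elim) (fun y => (IsEmpty.false y).elim)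
        (fun i => i.elim)
    refine ⟨G.obj (op 0), hG.1 0, ⟨NatIso.ofComponents
      (fun n => (hz _ (isCoh_modJ _ (hG.1 0)).1).iso (hz _ (hG.1 n.unop).1))
      (fun {n m} f => (hz _ (isCoh_modJ _ (hG.1 0)).1).eq_of_src _ _)⟩⟩
  -- Chow
  obtain ⟨N, X', π, p, hp, hpπ, hπ, U, hUne, hUiso⟩ := ChowNR.exists_chow (Y ↘ Spec (CommRingCat.of A))
  letI : X'.Over (Spec (CommRingCat.of A)) := ⟨π ≫ (Y ↘ Spec (CommRingCat.of A))⟩
  haveI := hp
  haveI := hπ
  haveI : IsProper (X' ↘ Spec (CommRingCat.of A)) :=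
    MorphismProperty.comp_mem @IsProper _ _ hπ inferInstance
  haveI : CompactSpace X' := QuasiCompact.compactSpace_of_compactSpace (X' ↘ Spec (CommRingCat.of A))
  haveI : IsLocallyNoetherian X' := LocallyOfFiniteType.isLocallyNoetherian (X' ↘ Spec (CommRingCat.of A))
  haveI : AlgebraicGeometry.IsNoetherian X' := { __ := ‹IsLocallyNoetherian X'›, __ := ‹CompactSpace X'› }
  have hG' : Formal.IsCohFormal I (G ⋙ Scheme.Modules.pullback π) := Algz7.isCohFormal_pullback π rfl hG
  obtain ⟨F, hF, ⟨β⟩⟩ := Groth.Agent.S0061.result A I N X' p hpπ _ hG'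
  let C : Closeds Y := ⟨(U : Set Y)ᶜ, U.2.isClosed_compl⟩
  let J : Y.IdealSheafData := Scheme.IdealSheafData.vanishingIdeal C
  have hJ : (J.support : Set Y) = (U : Set Y)ᶜ := Scheme.IdealSheafData.coe_support_vanishingIdeal C
  have hJU : J.support.compl = U := by
    refine Opens.ext ?_
    show (J.support : Set Y)ᶜ = _
    rw [hJ, compl_compl]
  obtain ⟨α, t, hα⟩ := push_pull π rfl hF I hG β.symm J (hJU ▸ hUiso)
  refine exists_algebraization_two J hG (fun e => ⟨fun M₁ M₂ h₁ h₂ _ _ ψ => ?_, fun G₁ hG₁ hK₁ => ?_⟩)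
    (isCoh_pushforward_proper π hF) α (t + 1) (fun n => (hα n).1) (fun n => (hα n).2)
  · exact Groth.Agent.S0060.result A I Y M₁ M₂ h₁ h₂ ψ
  -- the smaller closed subscheme
  let W : Scheme.{u} := (J ^ e).subscheme
  let k : W ⟶ Y := (J ^ e).subschemeι
  letI : W.Over (Spec (CommRingCat.of A)) := ⟨k ≫ (Y ↘ Spec (CommRingCat.of A))⟩
  haveI : IsProper (W ↘ Spec (CommRingCat.of A)) :=
    MorphismProperty.comp_mem @IsProper _ _ (inferInstance : IsProper k) inferInstance
  haveI : CompactSpace W := QuasiCompact.compactSpace_of_compactSpace (W ↘ Spec (CommRingCat.of A))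
  haveI : IsLocallyNoetherian W := LocallyOfFiniteType.isLocallyNoetherian (W ↘ Spec (CommRingCat.of A))
  haveI : AlgebraicGeometry.IsNoetherian W := { __ := ‹IsLocallyNoetherian W›, __ := ‹CompactSpace W› }
  have hrange : Set.range k ⊆ (U : Set Y)ᶜ := by
    rw [Scheme.IdealSheafData.range_subschemeι, ← hJ]
    cases e with
    | zero =>
      rw [pow_zero]
      intro y hy
      rw [Scheme.IdealSheafData.one_eq_top, Scheme.IdealSheafData.support_top] at hy
      exact hy.elim
    | succ e => rw [Scheme.IdealSheafData.support_pow_succ]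
  let Z' : Closeds X := ⟨j '' (U : Set Y)ᶜ, j.isClosedEmbedding.isClosedMap _ U.2.isClosed_compl⟩
  have hlt : Z' < Z := by
    refine lt_of_le_of_ne (fun x hx => hj (Set.image_subset_range _ _ hx)) fun he => ?_
    obtain ⟨u, hu⟩ := hUne
    have : j u ∈ (Z' : Set X) := he ▸ hj ⟨u, rfl⟩
    obtain ⟨v, hv, hvu⟩ := this
    exact hv ((j.isClosedEmbedding.injective hvu) ▸ hu)
  obtain ⟨M, hM, ⟨γ⟩⟩ := ih Z' hlt W (k ≫ j) (by
    rintro _ ⟨w, rfl⟩
    exact ⟨k w, hrange ⟨w, rfl⟩, rfl⟩) (G₁ ⋙ Scheme.Modules.pullback k) (Algz7.isCohFormal_pullback k rfl hG₁)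
  refine ⟨(Scheme.Modules.pushforward k).obj M, QCoh.isCoh_pushforward_finite k hM, fun V a ha m => ?_,
    ⟨pushCompIso k rfl I M hM ≪≫ Functor.isoWhiskerRight γ (Scheme.Modules.pushforward k) ≪≫
      (NatIso.ofComponents (fun n =>
        haveI := isIso_ηK_of_killed (J ^ e) (hG₁.1 n.unop).1 (hK₁ n.unop)
        asIso (ηK (J ^ e) (G₁.obj n)))
        (fun {n m} f => (ηK_natural (J ^ e) (G₁.map f)).symm)).symm⟩⟩
  show (k.app V.1 a) • (show Γ(M, k ⁻¹ᵁ V.1) from m) = 0
  have h0 : k.app V.1 a = 0 := by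
    rw [← RingHom.mem_ker, ← Scheme.Hom.ker_apply, Scheme.IdealSheafData.ker_subschemeι]
    exact ha
  rw [h0]
  exact zero_smul _ _

include I in
theorem exists_algebraization_proper (X : Scheme.{u}) [X.Over (Spec (CommRingCat.of A))]
    [IsProper (X ↘ Spec (CommRingCat.of A))] (G : ℕᵒᵖ ⥤ X.Modules) (hG : Formal.IsCohFormal I G) :
    ∃ M : X.Modules, Coh.IsCoh M ∧ Nonempty (Formal.completion I M ≅ G) := by
  haveI : CompactSpace X := QuasiCompact.compactSpace_of_compactSpace (X ↘ Spec (CommRingCat.of A))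
  haveI : IsLocallyNoetherian X := LocallyOfFiniteType.isLocallyNoetherian (X ↘ Spec (CommRingCat.of A))
  haveI : AlgebraicGeometry.IsNoetherian X := { __ := ‹IsLocallyNoetherian X›, __ := ‹CompactSpace X› }
  exact exists_algebraization_proper_aux I X ⊤ X (𝟙 X) (fun _ _ => trivial) G hG

end Groth.Agent.ExistEasy
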