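import Groth.Agent.ExistEasy.PP.BaseIdeal
import Groth.Agent.FFun.GoodM
import Groth.Agent.QCoh.RpushProper
import Groth.Agent.QCoh.GodHH
import Groth.Agent.S0002

/-!
# Formal functions for direct images, over an affine open of the target
-/

universe u

set_option backward.isDefEq.respectTransparency false
set_option backward.isDefEq.respectTransparency.types false

open CategoryTheory CategoryTheory.Limits AlgebraicGeometry TopologicalSpace Opposite
open Groth.Agent.PnCoh.Finite (mapLin)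

noncomputable section

namespace Groth.Agent.ExistEasy

open Groth.Agent Groth.Agent.FFun

theorem secH_natural {B : Type u} [CommRing B] {X : Scheme.{u}} [X.Over (Spec (CommRingCat.of B))]
    {M N : X.Modules} (φ : M ⟶ N) (v : Γ(M, ⊤)) :
    mapLin B φ 0 (QCoh.secH (Coh.toGlobal (X ↘ Spec (CommRingCat.of B))) M v) =
      QCoh.secH (Coh.toGlobal (X ↘ Spec (CommRingCat.of B))) N (φ.app ⊤ v) := by
  apply (Sheaf.H.equiv₀ (Coh.toAb N) isTerminalTop).injective
  refine ((Sheaf.H.equiv₀_naturality isTerminalTop ((QCoh.toAbFunctor X).map φ)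
    ((Sheaf.H.equiv₀ (Coh.toAb M) isTerminalTop).symm v)).symm.trans ?_).trans
    ((Sheaf.H.equiv₀ (Coh.toAb N) isTerminalTop).apply_symm_apply _).symm
  exact congrArg (φ.app ⊤) ((Sheaf.H.equiv₀ (Coh.toAb M) isTerminalTop).apply_symm_apply v)

theorem app_res_comm {X : Scheme.{u}} {M N : X.Modules} (φ : M ⟶ N) {U V : X.Opens} (h : V ≤ U)
    (s : Γ(M, U)) : φ.app V (M.presheaf.map (homOfLE h).op s) = N.presheaf.map (homOfLE h).op (φ.app U s) :=
  QCoh.map_app_comm φ (homOfLE h) s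

variable {A : Type u} [CommRing A] {X Y : Scheme.{u}} [X.Over (Spec (CommRingCat.of A))]
  [Y.Over (Spec (CommRingCat.of A))] (f : X ⟶ Y)
  (hf : f ≫ (Y ↘ Spec (CommRingCat.of A)) = X ↘ Spec (CommRingCat.of A))

theorem fromSpec_toBase {V : Y.Opens} (hV : IsAffineOpen V) :
    hV.fromSpec ≫ (Y ↘ Spec (CommRingCat.of A)) =
      Spec.map (CommRingCat.ofHom (φsec (A := A) V)) := by
  rw [← IsAffineOpen.SpecMap_appLE_fromSpec (Y ↘ Spec (CommRingCat.of A)) (isAffineOpen_top _) hV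
    (le_top : V ≤ (Y ↘ Spec (CommRingCat.of A)) ⁻¹ᵁ ⊤), IsAffineOpen.fromSpec_top,
    Scheme.isoSpec_Spec_inv, ← Spec.map_comp]
  rfl

include hf in
theorem overSpec_toBase {V : Y.Opens} (hV : IsAffineOpen V) :
    QCoh.overSpec f hV ≫ Spec.map (CommRingCat.ofHom (φsec (A := A) V)) =
      (f ⁻¹ᵁ V).ι ≫ (X ↘ Spec (CommRingCat.of A)) := by
  rw [← fromSpec_toBase hV, ← Category.assoc, QCoh.overSpec_fromSpec, Category.assoc, hf]

/-- The transition of the quotients. -/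
abbrev trN (J : Ideal A) {n m : ℕ} (h : n ≤ m) (M : X.Modules) :
    modJ (J ^ (m + 1)) M ⟶ modJ (J ^ (n + 1)) M :=
  trJ (Ideal.pow_le_pow_right (Nat.succ_le_succ h)) M

include hf in
/-- Formal functions in degree zero, over an affine open of the target. -/
theorem formal_functions_affine [IsProper f] [IsLocallyNoetherian Y] {F : X.Modules} (hF : Coh.IsCoh F)
    (J : Ideal A) {V : Y.Opens} (hV : IsAffineOpen V) (n : ℕ) :
    (∃ m, n ≤ m ∧ ∀ y : Γ(F, f ⁻¹ᵁ V), (modJπ (J ^ (m + 1)) F).app (f ⁻¹ᵁ V) y = 0 →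
      (show Γ((Scheme.Modules.pushforward f).obj F, V) from y) ∈
        (J ^ (n + 1)).map (φsec V) • (⊤ : Submodule Γ(Y, V) Γ((Scheme.Modules.pushforward f).obj F, V))) ∧
    ∃ (m : ℕ) (h : n ≤ m), ∀ s : Γ(modJ (J ^ (m + 1)) F, f ⁻¹ᵁ V),
      ∃ y : Γ(F, f ⁻¹ᵁ V),
        (modJπ (J ^ (n + 1)) F).app (f ⁻¹ᵁ V) y = (trN J h F).app (f ⁻¹ᵁ V) s := by
  let Z : Scheme.{u} := (f ⁻¹ᵁ V : X.Opens)
  let ι : Z ⟶ X := (f ⁻¹ᵁ V).ι
  let q : Z ⟶ Spec (CommRingCat.of Γ(Y, V)) := QCoh.overSpec f hV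
  letI : Z.Over (Spec (CommRingCat.of A)) := ⟨ι ≫ (X ↘ Spec (CommRingCat.of A))⟩
  letI : Z.Over (Spec (CommRingCat.of Γ(Y, V))) := ⟨q⟩
  haveI : IsProper (Z ↘ Spec (CommRingCat.of Γ(Y, V))) := by
    show IsProper ((f ∣_ V) ≫ hV.isoSpec.hom)
    infer_instance
  haveI : IsNoetherianRing Γ(Y, V) := IsLocallyNoetherian.component_noetherian ⟨V, hV⟩
  haveI : CompactSpace Z := QuasiCompact.compactSpace_of_compactSpace (Z ↘ Spec (CommRingCat.of Γ(Y, V)))
  haveI : IsLocallyNoetherian Z :=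
    LocallyOfFiniteType.isLocallyNoetherian (Z ↘ Spec (CommRingCat.of Γ(Y, V)))
  haveI : IsNoetherian Z := { __ := ‹IsLocallyNoetherian Z›, __ := ‹CompactSpace Z› }
  let θ : A →+* Γ(Y, V) := φsec (A := A) V
  have hθ : (Z ↘ Spec (CommRingCat.of Γ(Y, V))) ≫ Spec.map (CommRingCat.ofHom θ) =
      Z ↘ Spec (CommRingCat.of A) := overSpec_toBase f hf hV
  let M : Z.Modules := F.restrict ι
  have hM : Coh.IsCoh M := QCoh.isCoh_restrict_open hF
  let K : Ideal Γ(Y, V) := J.map θ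
  have hG : GoodM M K := goodM_of_finite hM
    (fun p => Groth.Agent.S0002.result Γ(Y, V) Z M hM p) K
  -- the comparison of the quotients
  have hI : f ⁻¹ᵁ V = ι ''ᵁ ⊤ := (Scheme.Opens.ι_image_top _).symm
  have hQ : ∀ m, Algz7.IsQuot (J ^ m) ((Scheme.Modules.restrictFunctor ι).map (modJπ (J ^ m) F)) :=
    fun m => Algz7.IsQuot.restrict ι rfl (Algz7.IsQuot.mk' _
      (fun a ha => mem_killIdeal.1 (le_killIdeal_modJ (J ^ m) F ha))
      fun φ hφ => ⟨cokernel.desc _ φ hφ, cokernel.π_desc _ _ _⟩)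
  have hr : ∀ m, ∃ r : (Scheme.Modules.restrictFunctor ι).obj (modJ (J ^ m) F) ⟶ modJ (K ^ m) M,
      ∃ r' : modJ (K ^ m) M ⟶ (Scheme.Modules.restrictFunctor ι).obj (modJ (J ^ m) F),
      (Scheme.Modules.restrictFunctor ι).map (modJπ (J ^ m) F) ≫ r = modJπ (K ^ m) M ∧
        modJπ (K ^ m) M ≫ r' = (Scheme.Modules.restrictFunctor ι).map (modJπ (J ^ m) F) := fun m => by
    have hk : (J ^ m).map θ = K ^ m := Ideal.map_pow θ J m
    obtain ⟨r, hr⟩ := (hQ m).desc (modJπ (J ^ m) M) (cokernel.condition _)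
    refine ⟨r ≫ (baseIso θ hθ (J ^ m) (K ^ m) hk M).hom,
      (baseIso θ hθ (J ^ m) (K ^ m) hk M).inv ≫
        descJ ((Scheme.Modules.restrictFunctor ι).map (modJπ (J ^ m) F))
          (fun a ha => mem_killIdeal.2 (Algz7.killedBy_of_isQuot (hQ m) a ha)), ?_, ?_⟩
    · rw [reassoc_of% hr]
      exact π_baseIso θ hθ _ _ hk M
    · rw [← π_baseIso θ hθ _ _ hk M, Category.assoc, Iso.hom_inv_id_assoc, π_descJ]
  choose r r' hr hr' using hr
  let to' : ∀ P : X.Modules, Γ(P, f ⁻¹ᵁ V) → Γ(P.restrict ι, ⊤) :=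
    fun P s => (show Γ(P.restrict ι, ⊤) from P.presheaf.map (homOfLE hI.ge).op s)
  have hto : ∀ P : X.Modules, Function.Bijective (to' P) := fun P => by
    refine ⟨fun a b h => ?_, fun z => ⟨P.presheaf.map (homOfLE hI.le).op (show Γ(P, ι ''ᵁ ⊤) from z), ?_⟩⟩
    · have := congrArg (fun t => P.presheaf.map (homOfLE hI.le).op (show Γ(P, ι ''ᵁ ⊤) from t)) h
      exact ((QCoh.map_map _ _ _).trans (QCoh.map_id' _ _)).symm.trans
        (this.trans ((QCoh.map_map _ _ _).trans (QCoh.map_id' _ _)))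
    · exact (QCoh.map_map _ _ _).trans (QCoh.map_id' _ _)
  have hnat : ∀ {P Q : X.Modules} (φ : P ⟶ Q) (s : Γ(P, f ⁻¹ᵁ V)),
      ((Scheme.Modules.restrictFunctor ι).map φ).app ⊤ (to' P s) = to' Q (φ.app (f ⁻¹ᵁ V) s) :=
    fun φ s => app_res_comm φ hI.ge s
  have hB : ∀ (m : ℕ) (y : Γ(F, f ⁻¹ᵁ V)), (modJπ (K ^ m) M).app ⊤ (to' F y) =
      (r m).app ⊤ (to' (modJ (J ^ m) F) ((modJπ (J ^ m) F).app (f ⁻¹ᵁ V) y)) := fun m y => by
    rw [← hnat, ← hr m]
    rfl
  constructor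
  · obtain ⟨k, hk⟩ := (hG 0).1 (n + 1)
    refine ⟨max n k, le_max_left _ _, fun y hy => ?_⟩
    let e := QCoh.secH (Coh.toGlobal (Z ↘ Spec (CommRingCat.of Γ(Y, V)))) M
    letI := QCoh.secModule (Coh.toGlobal (Z ↘ Spec (CommRingCat.of Γ(Y, V)))) M ⊤
    have h0 : mapLin Γ(Y, V) (modJπ (K ^ k) M) 0 (e (to' F y)) = 0 := by
      refine π_eq_zero_of_le (Ideal.pow_le_pow_right (show k ≤ max n k + 1 by omega)) ?_
      rw [secH_natural, hB, hy]
      have : to' (modJ (J ^ (max n k + 1)) F) 0 = 0 := map_zero _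
      rw [this, map_zero, map_zero]
    have h1 : e (to' F y) ∈ K ^ (n + 1) • (⊤ : Submodule Γ(Y, V) (Coh.HH Z M 0)) := hk _ h0
    have h2 : to' F y ∈ K ^ (n + 1) • (⊤ : Submodule Γ(Y, V) Γ(M, ⊤)) := by
      have h3 := Submodule.mem_map_of_mem (f := e.symm.toLinearMap) h1
      rw [Submodule.map_smul''] at h3
      have h4 := Submodule.smul_mono (le_refl (K ^ (n + 1)))
        (le_top (a := Submodule.map e.symm.toLinearMap ⊤)) h3
      simpa using h4
    suffices H : ∀ v ∈ K ^ (n + 1) • (⊤ : Submodule Γ(Y, V) Γ(M, ⊤)), ∀ y', to' F y' = v →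
        (show Γ((Scheme.Modules.pushforward f).obj F, V) from y') ∈
          (J ^ (n + 1)).map (φsec V) • (⊤ : Submodule Γ(Y, V) Γ((Scheme.Modules.pushforward f).obj F, V)) from
      H _ h2 y rfl
    intro v hv
    refine Submodule.smul_induction_on hv ?_ ?_
    · intro b hb w _ y' hy'
      obtain ⟨w', rfl⟩ := (hto F).2 w
      have e2 : y' = (show Γ(X, f ⁻¹ᵁ V) from f.app V b) • w' := (hto F).1 (hy'.trans (by
        show (show Γ(Z, ⊤) from Z.presheaf.map (homOfLE le_top).op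
          (Coh.toGlobal (Z ↘ Spec (CommRingCat.of Γ(Y, V))) b)) • to' F w' = _
        rw [show Coh.toGlobal (Z ↘ Spec (CommRingCat.of Γ(Y, V))) = QCoh.rhoV f V from
          QCoh.toGlobal_overSpec f hV, QCoh.ringMap_id]
        refine Eq.trans ?_ (QCoh.map_smul' (homOfLE hI.ge) _ w').symm
        refine congrArg (fun c : Γ(X, ι ''ᵁ ⊤) => c • (show Γ(F, ι ''ᵁ ⊤) from to' F w')) ?_
        show (ι.appIso ⊤).inv (ι.appLE (f ⁻¹ᵁ V) ⊤ _ (f.app V b)) = _
        rw [← ConcreteCategory.comp_apply, Scheme.Hom.appLE_appIso_inv]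
        ))
      rw [e2]
      refine Submodule.smul_mem_smul (M := Γ((Scheme.Modules.pushforward f).obj F, V)) ?_ Submodule.mem_top
      rw [Ideal.map_pow]
      exact hb
    · intro v w hv hw y' hy'
      obtain ⟨a, rfl⟩ := (hto F).2 v
      obtain ⟨c, rfl⟩ := (hto F).2 w
      have : y' = a + c := (hto F).1 (hy'.trans (map_add (F.presheaf.map (homOfLE hI.ge).op).hom a c).symm)
      rw [this]
      exact add_mem (hv a rfl) (hw c rfl)
  · obtain ⟨k, hk, hy⟩ := (hG 0).2 (n + 1)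
    obtain ⟨j, rfl⟩ := Nat.exists_eq_add_of_le' (show 1 ≤ k by omega)
    refine ⟨j, by omega, fun s => ?_⟩
    let e := fun P => QCoh.secH (Coh.toGlobal (Z ↘ Spec (CommRingCat.of Γ(Y, V)))) P
    obtain ⟨z, hz⟩ := hy (e _ ((r (j + 1)).app ⊤ (to' _ s)))
    obtain ⟨z₀, rfl⟩ := (e M).surjective z
    obtain ⟨y, rfl⟩ := (hto F).2 z₀
    refine ⟨y, (hto _).1 ?_⟩
    rw [secH_natural, secH_natural, hB] at hz
    have h3 := congrArg ((r' (n + 1)).app ⊤) ((e _).injective hz)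
    have e1 : r (n + 1) ≫ r' (n + 1) = 𝟙 _ := by
      haveI := (hQ (n + 1)).epi
      rw [← cancel_epi ((Scheme.Modules.restrictFunctor ι).map (modJπ (J ^ (n + 1)) F)),
        reassoc_of% (hr (n + 1)), hr', Category.comp_id]
    have e2 : r (j + 1) ≫ trJ (Ideal.pow_le_pow_right hk) M ≫ r' (n + 1) =
        (Scheme.Modules.restrictFunctor ι).map (trN J (show n ≤ j by omega) F) := by
      haveI := (hQ (j + 1)).epi
      rw [← cancel_epi ((Scheme.Modules.restrictFunctor ι).map (modJπ (J ^ (j + 1)) F)),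
        reassoc_of% (hr (j + 1)), π_descJ_assoc, hr', ← Functor.map_comp, π_descJ]
    refine ((congr($(e1).app ⊤ _)).symm.trans (h3.trans ?_))
    refine (congr($(e2).app ⊤ (to' _ s))).trans ?_
    exact hnat _ s

end Groth.Agent.ExistEasy
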