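import Groth.Agent.ExistEasy.PP.HatLemmas
import Groth.Agent.SheafHomX.Proper

/-!
# The exponent over an affine open, through the completion
-/

universe u

set_option backward.isDefEq.respectTransparency false
set_option backward.isDefEq.respectTransparency.types false

open CategoryTheory CategoryTheory.Limits AlgebraicGeometry TopologicalSpace Opposite

noncomputable section

namespace Groth.Agent.ExistEasy

open Groth.Agent Groth.Agent.FFun

theorem exists_iso_of_completion {B : Type u} [CommRing B] [IsNoetherianRing B] {I : Ideal B}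
    [IsAdicComplete I B] {X : Scheme.{u}} [X.Over (Spec (CommRingCat.of B))]
    [IsProper (X ↘ Spec (CommRingCat.of B))] {M N : X.Modules} (hM : Coh.IsCoh M) (hN : Coh.IsCoh N)
    (τ : Formal.completion I M ≅ Formal.completion I N) :
    ∃ φ : M ≅ N, ∀ n : ℕ, Formal.modPowπ I (n + 1) M ≫ τ.hom.app (op n) =
      φ.hom ≫ Formal.modPowπ I (n + 1) N := by
  have key : ∀ {P Q : X.Modules}, Coh.IsCoh P → Coh.IsCoh Q →
      ∀ ψ : Formal.completion I P ⟶ Formal.completion I Q, ∃! φ : P ⟶ Q, ∀ n : ℕ,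
        Formal.modPowπ I (n + 1) P ≫ ψ.app (op n) = φ ≫ Formal.modPowπ I (n + 1) Q := fun hP hQ ψ =>
    SheafHomX.existsUnique_of_proper I hP hQ (C := Set.univ)
      (QCoh.isProperOver_of_subset (𝟙 X) isClosed_univ (fun x _ => ⟨x, rfl⟩)) (Set.subset_univ _) ψ
  obtain ⟨a, ha, -⟩ := key hM hN τ.hom
  obtain ⟨b, hb, -⟩ := key hN hM τ.inv
  refine ⟨⟨a, b, ?_, ?_⟩, ha⟩
  · refine (key hM hM (𝟙 _)).unique (fun n => ?_) (fun n => ?_)
    · rw [Category.assoc, ← hb, ← Category.assoc, ← ha, Category.assoc, ← NatTrans.comp_app,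
        Iso.hom_inv_id]
    · rw [NatTrans.id_app, Category.id_comp]
      exact Category.comp_id _
  · refine (key hN hN (𝟙 _)).unique (fun n => ?_) (fun n => ?_)
    · rw [Category.assoc, ← ha, ← Category.assoc, ← hb, Category.assoc, ← NatTrans.comp_app,
        Iso.inv_hom_id]
    · rw [NatTrans.id_app, Category.id_comp]
      exact Category.comp_id _

variable {A : Type u} [CommRing A]

theorem exists_iso_of_completion_base {B : Type u} [CommRing B] [IsNoetherianRing B] {J : Ideal A}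
    (θ : A →+* B) [IsAdicComplete (J.map θ) B] {X : Scheme.{u}} [X.Over (Spec (CommRingCat.of A))]
    [X.Over (Spec (CommRingCat.of B))] [IsProper (X ↘ Spec (CommRingCat.of B))]
    (hθ : (X ↘ Spec (CommRingCat.of B)) ≫ Spec.map (CommRingCat.ofHom θ) = X ↘ Spec (CommRingCat.of A))
    {M N : X.Modules} (hM : Coh.IsCoh M) (hN : Coh.IsCoh N)
    (σ : Formal.completion J M ≅ Formal.completion J N) :
    ∃ φ : M ≅ N, ∀ n : ℕ, modJπ (J ^ (n + 1)) M ≫ σ.hom.app (op n) =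
      φ.hom ≫ modJπ (J ^ (n + 1)) N := by
  obtain ⟨φ, hφ⟩ := exists_iso_of_completion hM hN
    ((baseCompIso θ hθ J M).symm ≪≫ σ ≪≫ baseCompIso θ hθ J N)
  refine ⟨φ, fun n => ?_⟩
  have h : modJπ ((J.map θ) ^ (n + 1)) M ≫ (baseCompIso θ hθ J M).inv.app (op n) ≫ σ.hom.app (op n) ≫
      (baseCompIso θ hθ J N).hom.app (op n) = φ.hom ≫ modJπ ((J.map θ) ^ (n + 1)) N := hφ n
  rw [← π_baseCompIso θ hθ J M n, Category.assoc, Iso.hom_inv_id_app_assoc,
    ← π_baseCompIso θ hθ J N n, ← Category.assoc, ← Category.assoc] at h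
  exact (cancel_mono _).1 h

/-- Localisation at one function: a map bijective there has kernel and cokernel killed by a power. -/
theorem exists_pow_kill {T : Scheme.{u}} [IsAffine T] [IsLocallyNoetherian T] {M N : T.Modules}
    (hM : Coh.IsCoh M) (hN : Coh.IsCoh N) (ψ : M ⟶ N) (gh : Γ(T, ⊤))
    (hψD : Function.Bijective (ψ.app (T.basicOpen gh))) :
    ∃ t₁ t₂ : ℕ, (∀ x : Γ(M, ⊤), ψ.app ⊤ x = 0 → gh ^ t₁ • x = 0) ∧
      ∀ y : Γ(N, ⊤), ∃ x : Γ(M, ⊤), ψ.app ⊤ x = gh ^ t₂ • y := by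
  classical
  haveI : IsNoetherianRing Γ(T, ⊤) := QCoh.noetherian_sections (X := T) ⟨⊤, isAffineOpen_top T⟩
  haveI := QCoh.finite_sections hM (isAffineOpen_top T)
  haveI := QCoh.finite_sections hN (isAffineOpen_top T)
  obtain ⟨t₁, ht₁⟩ := FFun.exists_torsion_bound (M := Γ(M, ⊤)) gh
  obtain ⟨s, hs⟩ := (Module.Finite.fg_top (R := Γ(T, ⊤)) (M := Γ(N, ⊤)))
  have hex : ∀ y : Γ(N, ⊤), ∃ (e : ℕ) (x : Γ(M, ⊤)), ψ.app ⊤ x = gh ^ e • y := fun y => by
    obtain ⟨x', hx'⟩ := hψD.2 (N.presheaf.map (homOfLE (T.basicOpen_le gh)).op y)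
    obtain ⟨e, x, hx⟩ := QCoh.exists_pow_smul_eq_map hM.1 (isAffineOpen_top T) gh x'
    have h0 : N.presheaf.map (homOfLE (T.basicOpen_le gh)).op (ψ.app ⊤ x - gh ^ e • y) = 0 := by
      rw [map_sub, ← app_res_comm ψ, hx, QCoh.map_smul', sub_eq_zero, Scheme.Modules.Hom.app_smul, hx',
        map_pow]
    obtain ⟨e', he'⟩ := QCoh.exists_pow_smul_eq_zero hN.1 (isAffineOpen_top T) gh _ h0
    refine ⟨e' + e, gh ^ e' • x, ?_⟩
    rw [smul_sub, sub_eq_zero, ← mul_smul, ← pow_add] at he'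
    rw [Scheme.Modules.Hom.app_smul, he']
  choose e xx hxx using hex
  refine ⟨t₁, s.sup e, fun x hx => ?_, fun y => ?_⟩
  · have hx0 : M.presheaf.map (homOfLE (T.basicOpen_le gh)).op x = 0 := by
      refine hψD.1 ?_
      rw [app_res_comm ψ, hx, map_zero, map_zero]
    obtain ⟨k, hk⟩ := QCoh.exists_pow_smul_eq_zero hM.1 (isAffineOpen_top T) gh x hx0
    exact ht₁ k x hk
  refine Submodule.span_induction (p := fun y _ => ∃ x : Γ(M, ⊤), ψ.app ⊤ x = gh ^ s.sup e • y) ?_ ?_ ?_ ?_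
    (show y ∈ Submodule.span Γ(T, ⊤) (s : Set _) by rw [hs]; trivial)
  · intro z hz
    obtain ⟨d, hd⟩ := Nat.exists_eq_add_of_le (Finset.le_sup (f := e) hz)
    exact ⟨gh ^ d • xx z, by rw [Scheme.Modules.Hom.app_smul, hxx, ← mul_smul, ← pow_add, add_comm d,
      ← hd]⟩
  · exact ⟨0, by rw [smul_zero, map_zero]⟩
  · rintro a b - - ⟨xa, ha⟩ ⟨xb, hb⟩
    exact ⟨xa + xb, by rw [map_add, ha, hb, smul_add]⟩
  · rintro c z - ⟨x, hx⟩
    exact ⟨c • x, by rw [Scheme.Modules.Hom.app_smul, hx, smul_comm]⟩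

section Square

variable {P Q R S : Scheme.{u}} {p : P ⟶ Q} {q : Q ⟶ S} {r : P ⟶ R} {s : R ⟶ S}

/-- Inverse images along the two ways around a commutative square. -/
def squareIso (w : p ≫ q = r ≫ s) :
    Scheme.Modules.pullback q ⋙ Scheme.Modules.pullback p ≅
      Scheme.Modules.pullback s ⋙ Scheme.Modules.pullback r :=
  Scheme.Modules.pullbackComp p q ≪≫ Scheme.Modules.pullbackCongr w ≪≫
    (Scheme.Modules.pullbackComp r s).symm

theorem squareIso_pullSec (w : p ≫ q = r ≫ s) (G : S.Modules) {W : P.Opens} {U : Q.Opens} {U' : R.Opens}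
    {V : S.Opens} (h₁ : U ≤ q ⁻¹ᵁ V) (h₂ : W ≤ p ⁻¹ᵁ U) (h₁' : U' ≤ s ⁻¹ᵁ V) (h₂' : W ≤ r ⁻¹ᵁ U')
    (x : Γ(G, V)) :
    ((squareIso w).hom.app G).app W
        (QCoh.pullSec p ((Scheme.Modules.pullback q).obj G) h₂ (QCoh.pullSec q G h₁ x)) =
      QCoh.pullSec r ((Scheme.Modules.pullback s).obj G) h₂' (QCoh.pullSec s G h₁' x) := by
  have h0 : (squareIso w).hom.app G = (Scheme.Modules.pullbackComp p q).hom.app G ≫
      (Scheme.Modules.pullbackCongr w).hom.app G ≫ (Scheme.Modules.pullbackComp r s).inv.app G := rfl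
  rw [h0]
  refine (congrArg (fun z => ((Scheme.Modules.pullbackComp r s).inv.app G).app W
    (((Scheme.Modules.pullbackCongr w).hom.app G).app W z)) (pullSec_comp p q G h₁ h₂ x)).trans ?_
  refine (congrArg (((Scheme.Modules.pullbackComp r s).inv.app G).app W)
    (pullSec_congr w G (h₂.trans ((Opens.map p.base).monotone h₁)) x)).trans ?_
  refine (congrArg (((Scheme.Modules.pullbackComp r s).inv.app G).app W)
    (pullSec_comp r s G h₁' h₂' x).symm).trans ?_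
  exact congr(($((Scheme.Modules.pullbackComp r s).hom_inv_id_app G)).app W _)

end Square

theorem pullSec_zero {P Q : Scheme.{u}} (φ : P ⟶ Q) (M : Q.Modules) {W : P.Opens} {V : Q.Opens}
    (hle : W ≤ φ ⁻¹ᵁ V) : QCoh.pullSec φ M hle 0 = 0 := by
  have e := QCoh.pullSec_add φ M hle 0 0
  rw [add_zero] at e
  exact add_eq_left.1 e.symm

variable {X Y : Scheme.{u}} [X.Over (Spec (CommRingCat.of A))]
  [Y.Over (Spec (CommRingCat.of A))] (f : X ⟶ Y)
  (hf : f ≫ (Y ↘ Spec (CommRingCat.of A)) = X ↘ Spec (CommRingCat.of A))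

/-- The maps of the system below to the direct images of the quotients. -/
def uMap {J : Ideal A} {G : ℕᵒᵖ ⥤ Y.Modules} {F : X.Modules}
    (β : (G ⋙ Scheme.Modules.pullback f) ≅ Formal.completion J F) (m : ℕ) :
    G.obj (op m) ⟶ (Scheme.Modules.pushforward f).obj (modJ (J ^ (m + 1)) F) :=
  (Scheme.Modules.pullbackPushforwardAdjunction f).unit.app (G.obj (op m)) ≫
    (Scheme.Modules.pushforward f).map (β.hom.app (op m))

theorem hPV {Bh : Type u} [CommRing Bh] {V : Y.Opens} (hV : IsAffineOpen V) (ρ : Γ(Y, V) →+* Bh) :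
    (⊤ : (Spec (CommRingCat.of Bh)).Opens) ≤ (Spec.map (CommRingCat.ofHom ρ) ≫ hV.fromSpec) ⁻¹ᵁ V := fun x _ => by
  show (Spec.map (CommRingCat.ofHom ρ) ≫ hV.fromSpec) x ∈ (V : Set Y)
  rw [← hV.range_fromSpec]
  exact ⟨_, rfl⟩

/-- The completion of the functions on an affine open. -/
abbrev cRing (J : Ideal A) (V : Y.Opens) : Type u := AdicCompletion (J.map (φsec (A := A) V)) Γ(Y, V)

/-- The spectrum of the completion, over `Y`. -/
abbrev cMap (J : Ideal A) {V : Y.Opens} (hV : IsAffineOpen V) :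
    Spec (CommRingCat.of (cRing J V)) ⟶ Y :=
  Spec.map (CommRingCat.ofHom (algebraMap Γ(Y, V) (cRing J V))) ≫ hV.fromSpec

/-- Modules killed by a power of the ideal do not change on completing. -/
theorem bijective_pullSec_completion (J : Ideal A) {V : Y.Opens} (hV : IsAffineOpen V)
    [IsNoetherianRing Γ(Y, V)] {N : Y.Modules} (hN : Coh.IsQCoh N) (m : ℕ)
    (hk : Formal.KilledBy (J ^ (m + 1)) N) :
    Function.Bijective (QCoh.pullSec (cMap J hV) N (hPV hV (algebraMap Γ(Y, V) (cRing J V)))) := by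
  let θ : A →+* Γ(Y, V) := φsec (A := A) V
  let I : Ideal Γ(Y, V) := J.map θ
  let T : Scheme.{u} := Spec (CommRingCat.of (cRing J V))
  let π : T ⟶ Y := cMap J hV
  let hπV := hPV hV (algebraMap Γ(Y, V) (cRing J V))
  letI : T.Over (Spec (CommRingCat.of A)) := ⟨π ≫ (Y ↘ Spec (CommRingCat.of A))⟩
  have hρ : π.appLE V ⊤ hπV ≫ (Scheme.ΓSpecIso (CommRingCat.of (cRing J V))).hom =
      CommRingCat.ofHom (algebraMap Γ(Y, V) (cRing J V)) :=
    appLE_specMap_fromSpec hV _ hπV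
  have hI0 : ∀ q, q ∈ I ^ (m + 1) → ∀ x : Γ(N, V), q • x = 0 := fun q hq x => by
    refine smul_eq_zero_of_killed hk ?_ x
    rw [Ideal.map_pow]
    exact hq
  have hIk : (I ^ (m + 1)).map (π.appLE V ⊤ hπV).hom = (J ^ (m + 1)).map (φsec ⊤) := by
    show ((J.map θ) ^ (m + 1)).map _ = _
    rw [← Ideal.map_pow, Ideal.map_map]
    congr 1
    exact RingHom.ext fun a => appLE_φsec π rfl hπV a
  refine ⟨injective_pullSec π hN (isAffineOpen_top T) hV hπV (I ^ (m + 1)) hI0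
    (((AdicCompletion.evalₐ I (m + 1)).toRingHom).comp
      (Scheme.ΓSpecIso (CommRingCat.of (cRing J V))).hom.hom)
    (fun c => ?_), surjective_pullSec π hN (isAffineOpen_top T) hV hπV fun c' => ?_⟩
  · show AdicCompletion.evalₐ I (m + 1)
      ((π.appLE V ⊤ hπV ≫ (Scheme.ΓSpecIso (CommRingCat.of (cRing J V))).hom) c) = _
    rw [hρ]
    exact (AdicCompletion.evalₐ I (m + 1)).commutes c
  · obtain ⟨c, hc⟩ := Ideal.Quotient.mk_surjective
      (AdicCompletion.evalₐ I (m + 1) ((Scheme.ΓSpecIso (CommRingCat.of (cRing J V))).hom c'))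
    refine ⟨c, fun y => sub_eq_zero.1 ?_⟩
    rw [← sub_smul]
    refine smul_eq_zero_of_killed (Algz7.killedBy_pullback π rfl hk) ?_ y
    rw [← hIk]
    have hd : AdicCompletion.evalₐ I (m + 1)
        ((Scheme.ΓSpecIso (CommRingCat.of (cRing J V))).hom (c' - π.appLE V ⊤ hπV c)) = 0 := by
      rw [map_sub, map_sub, ← CommRingCat.comp_apply, hρ, ← hc]
      exact sub_eq_zero.2 ((AdicCompletion.evalₐ I (m + 1)).commutes c).symm
    rw [FComplLib.evalₐ_eq_zero_iff I (IsNoetherian.noetherian I)] at hd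
    have h1 := Ideal.mem_map_of_mem (Scheme.ΓSpecIso (CommRingCat.of (cRing J V))).inv.hom hd
    rw [Ideal.map_map] at h1
    convert h1 using 2
    · exact congrArg CommRingCat.Hom.hom ((Iso.eq_comp_inv _).2 hρ)
    · exact (congr($((Scheme.ΓSpecIso (CommRingCat.of (cRing J V))).hom_inv_id) (c' - π.appLE V ⊤ hπV c))).symm

include hf in
/-- ... nor do their sections over the preimage. -/
theorem injective_pullSec_fst (J : Ideal A) {V : Y.Opens} (hV : IsAffineOpen V)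
    [IsNoetherianRing Γ(Y, V)] {N : X.Modules} (hN : Coh.IsQCoh N) (m : ℕ)
    (hk : Formal.KilledBy (J ^ (m + 1)) N)
    (hW : pullback.snd f (cMap J hV) ⁻¹ᵁ ⊤ ≤ pullback.fst f (cMap J hV) ⁻¹ᵁ (f ⁻¹ᵁ V)) :
    Function.Injective (QCoh.pullSec (pullback.fst f (cMap J hV)) N hW) := by
  let B := Γ(Y, V)
  let θ : A →+* B := φsec (A := A) V
  let I : Ideal B := J.map θ
  let Bh := cRing J V
  let ρ : B →+* Bh := algebraMap B Bh
  let π := cMap J hV
  let hπV := hPV hV (algebraMap Γ(Y, V) (cRing J V))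
  let h := pullback.fst f π
  let fh := pullback.snd f π
  let Xh : Scheme.{u} := pullback f π
  intro y y' hyy
  refine sub_eq_zero.1 (QCoh.eq_zero_of_locally _ _ fun p hp => ?_)
  obtain ⟨W, hWa', hpW, hWle⟩ := exists_isAffineOpen_mem_and_subset (X := X) (x := p) (U := f ⁻¹ᵁ V) hp
  refine ⟨W, homOfLE hWle, hpW, ?_⟩
  have hWh : IsAffineOpen (h ⁻¹ᵁ W) := isAffineOpen_preimage_fst f π hV hπV hWa' hWle
  let Q : Ideal Γ(X, W) := (J ^ (m + 1)).map (φsec W)
  have hQI : I ^ (m + 1) ≤ Q.comap (f.appLE V W hWle).hom := by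
    rw [← Ideal.map_le_iff_le_comap]
    show ((J.map θ) ^ (m + 1)).map _ ≤ (J ^ (m + 1)).map _
    rw [← Ideal.map_pow, Ideal.map_map]
    refine le_of_eq ?_
    congr 1
    exact RingHom.ext fun a => appLE_φsec f hf hWle a
  let γ : Bh →+* Γ(X, W) ⧸ Q :=
    (Ideal.quotientMap Q (f.appLE V W hWle).hom hQI).comp (AdicCompletion.evalₐ I (m + 1)).toRingHom
  have hγ : γ.comp ρ = (Ideal.Quotient.mk Q).comp (f.appLE V W hWle).hom := RingHom.ext fun c => by
    show Ideal.quotientMap Q _ hQI (AdicCompletion.evalₐ I (m + 1) (algebraMap B Bh c)) = _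
    rw [(AdicCompletion.evalₐ I (m + 1)).commutes]
    exact Ideal.quotientMap_mk
  let qW : Spec (CommRingCat.of (Γ(X, W) ⧸ Q)) ⟶ X :=
    Spec.map (CommRingCat.ofHom (Ideal.Quotient.mk Q)) ≫ hWa'.fromSpec
  let sec : Spec (CommRingCat.of (Γ(X, W) ⧸ Q)) ⟶ Xh :=
    pullback.lift qW (Spec.map (CommRingCat.ofHom γ)) (by
      show (Spec.map _ ≫ hWa'.fromSpec) ≫ f = Spec.map (CommRingCat.ofHom γ) ≫ Spec.map _ ≫ hV.fromSpec
      rw [Category.assoc, ← IsAffineOpen.SpecMap_appLE_fromSpec f hV hWa' hWle, ← Spec.map_comp_assoc,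
        ← Spec.map_comp_assoc]
      congr 2
      first | exact CommRingCat.hom_ext hγ.symm | skip)
  have hsec : sec ≫ h = qW := pullback.lift_fst _ _ _
  have hq : (⊤ : (Spec (CommRingCat.of (Γ(X, W) ⧸ Q))).Opens) ≤ qW ⁻¹ᵁ W := fun x _ => by
    show qW x ∈ (W : Set X)
    rw [← hWa'.range_fromSpec]
    exact ⟨_, rfl⟩
  have hsecW : (⊤ : (Spec (CommRingCat.of (Γ(X, W) ⧸ Q))).Opens) ≤ sec ⁻¹ᵁ (h ⁻¹ᵁ W) := by
    show _ ≤ (sec ≫ h) ⁻¹ᵁ W
    rw [hsec]
    exact hq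
  have hinj := injective_pullSec h hN hWh hWa' le_rfl Q
    (fun q hq' x => smul_eq_zero_of_killed
      hk hq' x)
    ((Scheme.ΓSpecIso (CommRingCat.of (Γ(X, W) ⧸ Q))).hom.hom.comp
      (sec.appLE (h ⁻¹ᵁ W) ⊤ hsecW).hom) (fun c => by
      show (h.appLE W (h ⁻¹ᵁ W) le_rfl ≫ sec.appLE (h ⁻¹ᵁ W) ⊤ hsecW ≫
        (Scheme.ΓSpecIso (CommRingCat.of (Γ(X, W) ⧸ Q))).hom) c = _
      rw [Scheme.Hom.appLE_comp_appLE_assoc]
      simp only [hsec]
      exact congr($(appLE_specMap_fromSpec hWa' (Ideal.Quotient.mk Q) hq) c))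
  refine hinj ?_
  have hle2 : h ⁻¹ᵁ W ≤ fh ⁻¹ᵁ ⊤ := le_top
  rw [← pullSec_res h N hWle hle2 hW le_rfl (y - y')]
  have : QCoh.pullSec h N hW (y - y') = 0 := by
    have e1 := QCoh.pullSec_add h N hW (y - y') y'
    rw [sub_add_cancel] at e1
    exact (add_eq_right.1 (e1.symm.trans hyy))
  rw [this, map_zero, pullSec_zero]

set_option maxHeartbeats 1600000 in
include hf in
/-- The uniform exponent over an affine open. -/
theorem exists_exponent [IsProper f] [IsLocallyNoetherian Y] {J : Ideal A} {G : ℕᵒᵖ ⥤ Y.Modules}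
    (hG : Formal.IsCohFormal J G) {F : X.Modules} (hF : Coh.IsCoh F)
    (β : (G ⋙ Scheme.Modules.pullback f) ≅ Formal.completion J F) {V : Y.Opens} (hV : IsAffineOpen V)
    (g : Γ(Y, V)) (hg : IsIso (f ∣_ Y.basicOpen g)) :
    ∃ t : ℕ, (∀ (m : ℕ) (y : Γ(F, f ⁻¹ᵁ V)), ∃ x : Γ(G.obj (op m), V), (uMap f β m).app V x =
        g ^ t • (show Γ((Scheme.Modules.pushforward f).obj (modJ (J ^ (m + 1)) F), V) from
          (modJπ (J ^ (m + 1)) F).app (f ⁻¹ᵁ V) y)) ∧
      ∀ n : ℕ, ∃ (k : ℕ) (h : n ≤ k), ∀ w : Γ(G.obj (op k), V),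
        (uMap f β k).app V w = 0 → g ^ t • (ARSys.tr G h).app V w = 0 := by
  classical
  haveI : IsNoetherianRing Γ(Y, V) := IsLocallyNoetherian.component_noetherian ⟨V, hV⟩
  -- the completed ring
  let B := Γ(Y, V)
  let θ : A →+* B := φsec (A := A) V
  let I : Ideal B := J.map θ
  let Bh := cRing J V
  let ρ : B →+* Bh := algebraMap B Bh
  let θh : A →+* Bh := ρ.comp θ
  haveI : IsNoetherianRing Bh := FormalFib6.isNoetherianRing_adicCompletion B I
  haveI : IsAdicComplete (J.map θh) Bh := by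
    rw [show J.map θh = I.map ρ from (Ideal.map_map θ ρ).symm]
    exact AdicCompletion.isAdicComplete_self I (IsNoetherian.noetherian I)
  let T : Scheme.{u} := Spec (CommRingCat.of Bh)
  let π : T ⟶ Y := cMap J hV
  letI : T.Over (Spec (CommRingCat.of A)) := ⟨π ≫ (Y ↘ Spec (CommRingCat.of A))⟩
  letI : T.Over (Spec (CommRingCat.of Bh)) := ⟨𝟙 _⟩
  have hθT : (T ↘ Spec (CommRingCat.of Bh)) ≫ Spec.map (CommRingCat.ofHom θh) =
      T ↘ Spec (CommRingCat.of A) := by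
    show 𝟙 _ ≫ _ = (Spec.map (CommRingCat.ofHom ρ) ≫ hV.fromSpec) ≫ _
    rw [Category.id_comp, Category.assoc, fromSpec_toBase hV, ← Spec.map_comp]
    rfl
  have hπV : (⊤ : T.Opens) ≤ π ⁻¹ᵁ V := hPV hV ρ
  let Xh : Scheme.{u} := pullback f π
  let h : Xh ⟶ X := pullback.fst f π
  let fh : Xh ⟶ T := pullback.snd f π
  letI : Xh.Over (Spec (CommRingCat.of A)) := ⟨h ≫ (X ↘ Spec (CommRingCat.of A))⟩
  letI : Xh.Over (Spec (CommRingCat.of Bh)) := ⟨fh⟩
  haveI : IsProper (Xh ↘ Spec (CommRingCat.of Bh)) := by show IsProper fh; infer_instance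
  have hsq : h ≫ f = fh ≫ π := pullback.condition
  have hfh : fh ≫ (T ↘ Spec (CommRingCat.of A)) = Xh ↘ Spec (CommRingCat.of A) := by
    show fh ≫ π ≫ _ = h ≫ _
    rw [← Category.assoc, ← hsq, Category.assoc, hf]
  have hh : h ≫ (X ↘ Spec (CommRingCat.of A)) = Xh ↘ Spec (CommRingCat.of A) := rfl
  have hθX : (Xh ↘ Spec (CommRingCat.of Bh)) ≫ Spec.map (CommRingCat.ofHom θh) =
      Xh ↘ Spec (CommRingCat.of A) := by
    rw [← hfh, ← hθT]
    show fh ≫ _ = fh ≫ 𝟙 _ ≫ _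
    rw [Category.id_comp]
  haveI : IsLocallyNoetherian Xh := LocallyOfFiniteType.isLocallyNoetherian fh
  -- the module on the completed affine
  let Gh : ℕᵒᵖ ⥤ T.Modules := G ⋙ Scheme.Modules.pullback π
  have hGh : Formal.IsCohFormal J Gh := Algz7.isCohFormal_pullback π rfl hG
  obtain ⟨M, hM, ⟨isoM⟩⟩ := exists_algebraization_affine Gh (isCohFormal_base θh hθT hGh)
  let isoA : Formal.completion J M ≅ Gh := baseCompIso θh hθT J M ≪≫ isoM
  let E : ∀ P : Y.Modules, (Scheme.Modules.pullback fh).obj ((Scheme.Modules.pullback π).obj P) ≅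
      (Scheme.Modules.pullback h).obj ((Scheme.Modules.pullback f).obj P) := fun P =>
    (squareIso hsq.symm).app P
  let E' : (G ⋙ Scheme.Modules.pullback π) ⋙ Scheme.Modules.pullback fh ≅
      (G ⋙ Scheme.Modules.pullback f) ⋙ Scheme.Modules.pullback h :=
    NatIso.ofComponents (fun n => E (G.obj n)) fun {n m} a =>
      (squareIso hsq.symm).hom.naturality (G.map a)
  let σ : Formal.completion J ((Scheme.Modules.pullback fh).obj M) ≅
      Formal.completion J ((Scheme.Modules.pullback h).obj F) :=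
    pullCompIso fh hfh J M ≪≫ Functor.isoWhiskerRight isoA (Scheme.Modules.pullback fh) ≪≫ E' ≪≫
      Functor.isoWhiskerRight β (Scheme.Modules.pullback h) ≪≫ (pullCompIso h hh J F).symm
  obtain ⟨φ, hφ⟩ := exists_iso_of_completion_base θh hθX (ZClosLib.isCoh_pullback fh hM)
    (ZClosLib.isCoh_pullback h hF) σ
  let Fh : Xh.Modules := (Scheme.Modules.pullback h).obj F
  let ψ : M ⟶ (Scheme.Modules.pushforward fh).obj Fh :=
    (Scheme.Modules.pullbackPushforwardAdjunction fh).unit.app M ≫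
      (Scheme.Modules.pushforward fh).map φ.hom
  have hPh : Coh.IsCoh ((Scheme.Modules.pushforward fh).obj Fh) :=
    isCoh_pushforward_proper fh (ZClosLib.isCoh_pullback h hF)
  -- the localisation at `g`
  let gh : Γ(T, ⊤) := π.appLE V ⊤ hπV g
  let D : T.Opens := T.basicOpen gh
  have hD : D ≤ π ⁻¹ᵁ Y.basicOpen g := by
    show T.basicOpen (π.appLE V ⊤ hπV g) ≤ _
    rw [Scheme.Hom.appLE, CommRingCat.comp_apply, Scheme.basicOpen_res, ← Scheme.preimage_basicOpen]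
    exact inf_le_right
  haveI : IsIso (fh ∣_ D) := isIso_restrict_snd f π hD
  have hDa : IsAffineOpen D := (isAffineOpen_top T).basicOpen gh
  have hWa : IsAffineOpen (fh ⁻¹ᵁ D) := by
    haveI : IsAffine (D : Scheme.{u}) := hDa
    exact IsAffine.of_isIso (fh ∣_ D)
  have hψD : Function.Bijective (ψ.app D) := by
    have hb := bijective_pullSec_of_isIso fh hM.1 hWa hDa le_rfl
      (by rw [← Scheme.Hom.app_eq_appLE]; exact bijective_app_of_isIso_restrict fh)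
    have he : ∀ x, QCoh.pullSec fh M (le_refl (fh ⁻¹ᵁ D)) x =
        ((Scheme.Modules.pullbackPushforwardAdjunction fh).unit.app M).app D x := fun x => QCoh.map_id' _ _
    refine Function.Bijective.comp (f := ((Scheme.Modules.pullbackPushforwardAdjunction fh).unit.app M).app D)
      (g := φ.hom.app (fh ⁻¹ᵁ D)) (ConcreteCategory.bijective_of_isIso _) ?_
    rwa [funext he] at hb
  obtain ⟨t₁, t₂, hker, hcok⟩ := exists_pow_kill hM hPh ψ gh hψD
  -- comparison of the levels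
  let a : ∀ m, Γ(G.obj (op m), V) → Γ(Gh.obj (op m), ⊤) := fun m => QCoh.pullSec π (G.obj (op m)) hπV
  have hW : fh ⁻¹ᵁ ⊤ ≤ h ⁻¹ᵁ (f ⁻¹ᵁ V) := by
    show fh ⁻¹ᵁ ⊤ ≤ (h ≫ f) ⁻¹ᵁ V
    rw [hsq]
    exact (Opens.map fh.base).monotone hπV
  let b : ∀ P : X.Modules, Γ(P, f ⁻¹ᵁ V) → Γ((Scheme.Modules.pullback h).obj P, fh ⁻¹ᵁ ⊤) :=
    fun P => QCoh.pullSec h P hW
  have hb : ∀ m, Function.Injective (b (modJ (J ^ (m + 1)) F)) := fun m =>
    injective_pullSec_fst f hf J hV (isCoh_modJ _ hF).1 m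
      (fun a ha => mem_killIdeal.1 (le_killIdeal_modJ (J ^ (m + 1)) F ha)) hW
  have ha : ∀ m, Function.Bijective (a m) := fun m =>
    bijective_pullSec_completion J hV (hG.1 m).1 m (hG.2.1 m)
  -- the square
  let Λ : ∀ m, Γ(Gh.obj (op m), ⊤) → Γ((Scheme.Modules.pullback h).obj (modJ (J ^ (m + 1)) F), fh ⁻¹ᵁ ⊤) :=
    fun m z => ((Scheme.Modules.pullback h).map (β.hom.app (op m))).app _
      ((E (G.obj (op m))).hom.app _ (QCoh.pullSec fh _ (le_refl (fh ⁻¹ᵁ ⊤)) z))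
  have hsquare : ∀ m w, Λ m (a m w) = b _ ((uMap f β m).app V w) := fun m w => by
    have e1 : (E (G.obj (op m))).hom.app (fh ⁻¹ᵁ ⊤)
        (QCoh.pullSec fh _ (le_refl (fh ⁻¹ᵁ ⊤)) (a m w)) =
        QCoh.pullSec h ((Scheme.Modules.pullback f).obj (G.obj (op m))) hW
          (QCoh.pullSec f (G.obj (op m)) le_rfl w) :=
      squareIso_pullSec hsq.symm (G.obj (op m)) hπV le_rfl le_rfl hW w
    show ((Scheme.Modules.pullback h).map (β.hom.app (op m))).app _ _ = _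
    rw [e1]
    refine (pullSec_natural h (β.hom.app (op m)) hW _).trans ?_
    refine congrArg (b _) ?_
    show (β.hom.app (op m)).app (f ⁻¹ᵁ V) (QCoh.pullSec f (G.obj (op m)) (le_refl (f ⁻¹ᵁ V)) w) = _
    rw [show QCoh.pullSec f (G.obj (op m)) (le_refl (f ⁻¹ᵁ V)) w =
      ((Scheme.Modules.pullbackPushforwardAdjunction f).unit.app (G.obj (op m))).app V w from QCoh.map_id' _ _]
    rfl
  have hlevel : ∀ m x, Λ m ((isoA.hom.app (op m)).app ⊤ ((modJπ (J ^ (m + 1)) M).app ⊤ x)) =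
      ((pullCompIso h hh J F).hom.app (op m)).app (fh ⁻¹ᵁ ⊤)
        ((modJπ (J ^ (m + 1)) Fh).app (fh ⁻¹ᵁ ⊤) (ψ.app ⊤ x)) := fun m x => by
    have e0 : ψ.app ⊤ x = φ.hom.app (fh ⁻¹ᵁ ⊤) (QCoh.pullSec fh M (le_refl (fh ⁻¹ᵁ ⊤)) x) :=
      congrArg (φ.hom.app (fh ⁻¹ᵁ ⊤)) (QCoh.map_id' _ _).symm
    rw [e0]
    have e1 : φ.hom ≫ modJπ (J ^ (m + 1)) Fh ≫ (pullCompIso h hh J F).hom.app (op m) =
        (Scheme.Modules.pullback fh).map (modJπ (J ^ (m + 1)) M) ≫
          (Scheme.Modules.pullback fh).map (isoA.hom.app (op m)) ≫ (E (G.obj (op m))).hom ≫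
            (Scheme.Modules.pullback h).map (β.hom.app (op m)) := by
      have e := hφ m
      simp only [σ, Iso.trans_hom, Iso.symm_hom, NatTrans.comp_app] at e
      rw [← reassoc_of% e, Iso.inv_hom_id_app, reassoc_of% (π_pullCompIso fh hfh J M m)]
      erw [Category.comp_id]
      rfl
    refine Eq.symm ((congr($(e1).app (fh ⁻¹ᵁ ⊤) (QCoh.pullSec fh M (le_refl (fh ⁻¹ᵁ ⊤)) x))).trans ?_)
    show ((Scheme.Modules.pullback h).map (β.hom.app (op m))).app _ ((E (G.obj (op m))).hom.app _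
      (((Scheme.Modules.pullback fh).map (isoA.hom.app (op m))).app _
        (((Scheme.Modules.pullback fh).map (modJπ (J ^ (m + 1)) M)).app _ _))) = _
    refine congrArg (((Scheme.Modules.pullback h).map (β.hom.app (op m))).app _)
      (congrArg ((E (G.obj (op m))).hom.app _) ?_)
    exact (congrArg (((Scheme.Modules.pullback fh).map (isoA.hom.app (op m))).app _)
      (pullSec_natural fh (modJπ (J ^ (m + 1)) M) le_rfl x)).trans
      (pullSec_natural fh (isoA.hom.app (op m)) le_rfl _)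
  have hgmem : h.appLE (f ⁻¹ᵁ V) (fh ⁻¹ᵁ ⊤) hW (f.app V g) = fh.app ⊤ gh := by
    show _ = fh.app ⊤ (π.appLE V ⊤ hπV g)
    rw [Scheme.Hom.app_eq_appLE, ← CommRingCat.comp_apply, Scheme.Hom.appLE_comp_appLE,
      Scheme.Hom.app_eq_appLE, ← CommRingCat.comp_apply, Scheme.Hom.appLE_comp_appLE]
    simp only [hsq]
  have hgpow : ∀ k : ℕ, h.appLE (f ⁻¹ᵁ V) (fh ⁻¹ᵁ ⊤) hW (f.app V (g ^ k)) = fh.app ⊤ gh ^ k := fun k => by
    rw [← hgmem, ← map_pow, ← map_pow]
  refine ⟨t₁ + t₂, fun m y => ?_, fun n => ?_⟩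
  · obtain ⟨x, hx⟩ := hcok (gh ^ t₁ • (show Γ((Scheme.Modules.pushforward fh).obj Fh, ⊤) from b F y))
    obtain ⟨w, hw⟩ := (ha m).2 ((isoA.hom.app (op m)).app ⊤ ((modJπ (J ^ (m + 1)) M).app ⊤ x))
    refine ⟨w, hb m ?_⟩
    rw [← hsquare, hw, hlevel, hx]
    show ((pullCompIso h hh J F).hom.app (op m)).app _ ((modJπ (J ^ (m + 1)) Fh).app (fh ⁻¹ᵁ ⊤)
      ((fh.app ⊤ (gh ^ t₂) • (fh.app ⊤ (gh ^ t₁) • b F y) : Γ(Fh, fh ⁻¹ᵁ ⊤)))) =
      QCoh.pullSec h _ hW (f.app V (g ^ (t₁ + t₂)) • (modJπ (J ^ (m + 1)) F).app (f ⁻¹ᵁ V) y)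
    rw [Scheme.Modules.Hom.app_smul, Scheme.Modules.Hom.app_smul, Scheme.Modules.Hom.app_smul,
      Scheme.Modules.Hom.app_smul, QCoh.pullSec_smul]
    show _ = h.appLE (f ⁻¹ᵁ V) (fh ⁻¹ᵁ ⊤) hW (f.app V (g ^ (t₁ + t₂))) • _
    rw [← mul_smul]
    refine congrArg₂ _ ?_ ?_
    · rw [hgpow, map_pow, map_pow, ← pow_add, add_comm]
    · show ((pullCompIso h hh J F).hom.app (op m)).app _ ((modJπ (J ^ (m + 1)) Fh).app _ (b F y)) = _
      exact (congr($(π_pullCompIso h hh J F m).app (fh ⁻¹ᵁ ⊤) (b F y))).trans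
        (pullSec_natural h _ hW y)
  · obtain ⟨⟨k, hk, hFF⟩, -⟩ := formal_functions_affine fh hfh (ZClosLib.isCoh_pullback h hF) J
      (isAffineOpen_top T) n
    refine ⟨k, hk, fun w hw => ?_⟩
    obtain ⟨z, hz⟩ : ∃ z, (isoA.hom.app (op k)).app ⊤ z = a k w :=
      (ConcreteCategory.bijective_of_isIso ((isoA.hom.app (op k)).app ⊤)).2 _
    haveI : Epi (modJπ (J ^ (k + 1)) M) := coequalizer.π_epi
    obtain ⟨x, rfl⟩ := QCoh.app_surjective_of_epi hM.1 (isCoh_modJ _ hM).1 (modJπ (J ^ (k + 1)) M)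
      (isAffineOpen_top T) z
    have h0 : (modJπ (J ^ (k + 1)) Fh).app (fh ⁻¹ᵁ ⊤) (ψ.app ⊤ x) = 0 := by
      refine (ConcreteCategory.bijective_of_isIso
        (((pullCompIso h hh J F).hom.app (op k)).app (fh ⁻¹ᵁ ⊤))).1 ?_
      rw [← hlevel, hz, hsquare, hw, map_zero]
      exact pullSec_zero h _ hW
    have h1 := hFF _ h0
    obtain ⟨x', hx', hxx'⟩ : ∃ x' ∈ (J ^ (n + 1)).map (φsec ⊤) • (⊤ : Submodule Γ(T, ⊤) Γ(M, ⊤)),
        ψ.app ⊤ x' = gh ^ t₂ • ψ.app ⊤ x := by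
      refine Submodule.smul_induction_on
        (p := fun v => ∃ x' ∈ (J ^ (n + 1)).map (φsec (A := A) (X := T) ⊤) • (⊤ : Submodule Γ(T, ⊤) Γ(M, ⊤)),
          ψ.app ⊤ x' = gh ^ t₂ • v) h1 (fun c hc v _ => ?_) fun v v' hv hv' => ?_
      · obtain ⟨z, hz⟩ := hcok v
        exact ⟨c • z, Submodule.smul_mem_smul hc Submodule.mem_top,
          by rw [Scheme.Modules.Hom.app_smul, hz, smul_comm]⟩
      · obtain ⟨z, hz, hzz⟩ := hv
        obtain ⟨z', hz', hzz'⟩ := hv'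
        exact ⟨z + z', add_mem hz hz', by rw [map_add, hzz, hzz', smul_add]⟩
    have h2 : gh ^ t₁ • (gh ^ t₂ • x - x') = 0 := hker _ (by
      rw [map_sub, Scheme.Modules.Hom.app_smul, hxx', sub_self])
    have h3 : (modJπ (J ^ (n + 1)) M).app ⊤ (gh ^ (t₁ + t₂) • x) = 0 := by
      rw [pow_add gh t₁ t₂, mul_smul, ← sub_add_cancel (gh ^ t₂ • x) x', smul_add, h2, zero_add]
      exact π_app_eq_zero M _ _ (Submodule.smul_mem _ _ hx')
    refine (ha n).1 ?_
    have e4 : a n ((ARSys.tr G hk).app V w) = (ARSys.tr Gh hk).app ⊤ (a k w) :=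
      (pullSec_natural π (ARSys.tr G hk) hπV w).symm
    have e5 : (ARSys.tr Gh hk).app ⊤ (a k w) =
        (isoA.hom.app (op n)).app ⊤ ((modJπ (J ^ (n + 1)) M).app ⊤ x) := by
      rw [← hz]
      have hn : modJπ (J ^ (k + 1)) M ≫ isoA.hom.app (op k) ≫ ARSys.tr Gh hk =
          modJπ (J ^ (n + 1)) M ≫ isoA.hom.app (op n) := by
        have := isoA.hom.naturality (homOfLE hk).op
        rw [show (Formal.completion J M).map (homOfLE hk).op = ARSys.tr (Formal.completion J M) hk from rfl,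
          completion_map_le] at this
        refine (congrArg (modJπ (J ^ (k + 1)) M ≫ ·) this.symm).trans ?_
        show modJπ (J ^ (k + 1)) M ≫ trJ _ M ≫ isoA.hom.app (op n) = _
        rw [π_descJ_assoc]
      exact congr($(hn).app ⊤ x)
    show QCoh.pullSec π (G.obj (op n)) hπV (g ^ (t₁ + t₂) • (ARSys.tr G hk).app V w) = a n 0
    rw [QCoh.pullSec_smul, map_pow]
    show gh ^ (t₁ + t₂) • a n ((ARSys.tr G hk).app V w) = _
    rw [e4, e5, ← Scheme.Modules.Hom.app_smul, ← Scheme.Modules.Hom.app_smul, h3, map_zero]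
    exact (pullSec_zero π _ hπV).symm

end Groth.Agent.ExistEasy
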