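import Groth.Agent.ExistEasy.PP.HatLemmas

/-!
# Modules killed by a power of an ideal sheaf, from a cover
-/

universe u

set_option backward.isDefEq.respectTransparency false
set_option backward.isDefEq.respectTransparency.types false

open CategoryTheory CategoryTheory.Limits AlgebraicGeometry TopologicalSpace Opposite

noncomputable section

namespace Groth.Agent.ExistEasy

open Groth.Agent

/-- A quasi-coherent module killed on an affine cover is killed. -/
theorem killedByIdeal_of_cover {Y : Scheme.{u}} {M : Y.Modules} (hM : Coh.IsQCoh M)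
    (K : Y.IdealSheafData) {ι : Type u} (V : ι → Y.affineOpens) (hcov : ∀ y : Y, ∃ i, y ∈ (V i).1)
    (h : ∀ i, ∀ a ∈ K.ideal (V i), ∀ m : Γ(M, (V i).1), a • m = 0) : ClSub.KilledByIdeal K M := by
  intro U a ha m
  refine QCoh.eq_zero_of_locally (M := M) U.1 (a • (show Γ(M, U.1) from m)) fun p hp => ?_
  obtain ⟨i, hi⟩ := hcov p
  obtain ⟨r, s, hrs, hpD⟩ := exists_basicOpen_le_affine_inter U.2 (V i).2 p ⟨hp, hi⟩
  refine ⟨Y.basicOpen r, homOfLE (Y.basicOpen_le r), hpD, ?_⟩
  rw [QCoh.map_smul']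
  let D : Y.affineOpens := ⟨Y.basicOpen r, U.2.basicOpen r⟩
  have hDV : D ≤ V i := by show Y.basicOpen r ≤ (V i).1; rw [hrs]; exact Y.basicOpen_le s
  have hDU : D ≤ U := Y.basicOpen_le r
  have ha' : Y.presheaf.map (homOfLE (Y.basicOpen_le r)).op a ∈ K.ideal D := by
    rw [← K.map_ideal hDU]
    exact Ideal.mem_map_of_mem _ ha
  rw [← K.map_ideal hDV] at ha'
  generalize M.presheaf.map (homOfLE (Y.basicOpen_le r)).op (show Γ(M, U.1) from m) = x
  revert x
  suffices H : ∀ c ∈ (K.ideal (V i)).map (Y.presheaf.map (homOfLE (show D.1 ≤ (V i).1 from hDV)).op).hom,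
      ∀ x : Γ(M, D.1), c • x = 0 from fun x => H _ ha' x
  intro c hc
  refine Submodule.span_induction (p := fun c _ => ∀ x : Γ(M, D.1), c • x = 0) ?_ ?_ ?_ ?_ hc
  · rintro _ ⟨b, hb, rfl⟩
    have key : ∀ (W : Y.Opens) (hW : W = Y.basicOpen s) (hle : W ≤ (V i).1) (x : Γ(M, W)),
        (Y.presheaf.map (homOfLE hle).op).hom b • x = 0 := by
      rintro _ rfl hle x
      obtain ⟨k, x', hx'⟩ := QCoh.exists_pow_smul_eq_map hM (V i).2 s x
      have hu : IsUnit (Y.presheaf.map (homOfLE hle).op s) := RingedSpace.isUnit_res_basicOpen Y.toRingedSpace s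
      refine ((hu.pow k).smul_eq_zero).1 ?_
      have h0 : M.presheaf.map (homOfLE hle).op (b • x') = 0 := by rw [h i b hb, map_zero]
      rw [QCoh.map_smul', hx'] at h0
      rw [smul_comm]
      first
        | exact h0
        | (rw [← map_pow]; exact h0)
    exact key D.1 hrs hDV
  · intro x; rw [zero_smul]
  · intro c c' _ _ hc hc' x; rw [add_smul, hc, hc', add_zero]
  · intro d c _ hc x; rw [smul_eq_mul, mul_comm, mul_smul]; exact hc _

theorem isIso_restrict_of_le {X Y : Scheme.{u}} (f : X ⟶ Y) {U D : Y.Opens} [IsIso (f ∣_ U)]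
    (h : D ≤ U) : IsIso (f ∣_ D) := by
  have hk : Y.homOfLE h ≫ U.ι = D.ι := Y.homOfLE_ι h
  have hl : X.homOfLE ((Opens.map f.base).monotone h) ≫ (f ⁻¹ᵁ U).ι = (f ⁻¹ᵁ D).ι := X.homOfLE_ι _
  have big : IsPullback (X.homOfLE ((Opens.map f.base).monotone h) ≫ (f ⁻¹ᵁ U).ι) (f ∣_ D) f
      (Y.homOfLE h ≫ U.ι) := by
    rw [hk, hl]
    exact (isPullback_morphismRestrict f D).flip
  have left := IsPullback.of_right big (by
    rw [← cancel_mono U.ι, Category.assoc, morphismRestrict_ι, Category.assoc, hk, morphismRestrict_ι,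
      ← Category.assoc, hl]) (isPullback_morphismRestrict f U).flip
  exact MorphismProperty.of_isPullback (P := MorphismProperty.isomorphisms Scheme) left
    (inferInstance : IsIso (f ∣_ U))

/-- Exponents for generators give one for the power of an ideal. -/
theorem exists_pow_killed {R : Type u} [CommRing R] {I : Ideal R} (hI : I.FG) (P : R → ℕ → Prop)
    (hP : ∀ g ∈ I, ∃ t, P g t) :
    ∃ (s : Finset R) (t : R → ℕ) (N : ℕ), (∀ g ∈ s, P g (t g)) ∧
      I ^ N ≤ Ideal.span ((fun g => g ^ t g) '' (s : Set R)) := by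
  classical
  obtain ⟨s, hs⟩ := hI
  have hex : ∀ g : R, ∃ t, g ∈ s → P g t := fun g => by
    by_cases hg : g ∈ s
    · obtain ⟨t, ht⟩ := hP g (hs ▸ Submodule.subset_span hg)
      exact ⟨t, fun _ => ht⟩
    · exact ⟨0, fun h => absurd h hg⟩
  choose t ht using hex
  let L : Ideal R := Ideal.span ((fun g => g ^ t g) '' (s : Set R))
  obtain ⟨N, hN⟩ := Ideal.exists_pow_le_of_le_radical_of_fg (I := I) (J := L) (by
    rw [← hs, Submodule.span_le]
    intro g hg
    exact ⟨t g, Ideal.subset_span ⟨g, hg, rfl⟩⟩) ⟨s, hs⟩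
  exact ⟨s, t, N, fun g hg => ht g hg, hN⟩

end Groth.Agent.ExistEasy
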