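import Groth.Agent.ExistEasy.PP.Hat
import Groth.Agent.ExistEasy.PP.Killed

/-!
# Pushing forward a formal module known on a modification
-/

universe u

set_option backward.isDefEq.respectTransparency false
set_option backward.isDefEq.respectTransparency.types false

open CategoryTheory CategoryTheory.Limits AlgebraicGeometry TopologicalSpace Opposite

noncomputable section

namespace Groth.Agent.ExistEasy

open Groth.Agent Groth.Agent.FFun

variable {A : Type u} [CommRing A] {X Y : Scheme.{u}} [X.Over (Spec (CommRingCat.of A))]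
  [Y.Over (Spec (CommRingCat.of A))] (f : X ⟶ Y)
  (hf : f ≫ (Y ↘ Spec (CommRingCat.of A)) = X ↘ Spec (CommRingCat.of A))

include hf in
theorem le_killIdeal_pushforward {J : Ideal A} {N : X.Modules} (h : J ≤ killIdeal N) :
    J ≤ killIdeal ((Scheme.Modules.pushforward f).obj N) := fun a ha => by
  rw [mem_killIdeal, ← Algz7.pushforward_smulMod f hf N a, mem_killIdeal.1 (h ha), Functor.map_zero]

/-- The comparison `(f_*F)/J → f_*(F/J)`. -/
def cMapJ (J : Ideal A) (F : X.Modules) :
    modJ J ((Scheme.Modules.pushforward f).obj F) ⟶ (Scheme.Modules.pushforward f).obj (modJ J F) :=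
  descJ ((Scheme.Modules.pushforward f).map (modJπ J F))
    (le_killIdeal_pushforward f hf (le_killIdeal_modJ J F))

theorem π_cMapJ (J : Ideal A) (F : X.Modules) :
    modJπ J ((Scheme.Modules.pushforward f).obj F) ≫ cMapJ f hf J F =
      (Scheme.Modules.pushforward f).map (modJπ J F) :=
  π_descJ _ _

theorem trN_trN (J : Ideal A) {n m k : ℕ} (h : n ≤ m) (h' : m ≤ k) (M : X.Modules) :
    trN J h' M ≫ trN J h M = trN J (h.trans h') M := by
  rw [← cancel_epi (modJπ (J ^ (k + 1)) M), π_descJ_assoc, π_descJ, π_descJ]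

theorem π_trN (J : Ideal A) {n m : ℕ} (h : n ≤ m) (M : X.Modules) :
    modJπ (J ^ (m + 1)) M ≫ trN J h M = modJπ (J ^ (n + 1)) M :=
  π_descJ _ _

theorem trN_cMapJ (J : Ideal A) (F : X.Modules) {n m : ℕ} (h : n ≤ m) :
    trN J h ((Scheme.Modules.pushforward f).obj F) ≫ cMapJ f hf (J ^ (n + 1)) F =
      cMapJ f hf (J ^ (m + 1)) F ≫ (Scheme.Modules.pushforward f).map (trN J h F) := by
  rw [← cancel_epi (modJπ (J ^ (m + 1)) ((Scheme.Modules.pushforward f).obj F)), π_descJ_assoc, π_cMapJ,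
    reassoc_of% (π_cMapJ f hf (J ^ (m + 1)) F), ← Functor.map_comp, π_descJ]

variable [IsProper f] [AlgebraicGeometry.IsNoetherian Y] {F : X.Modules} (hF : Coh.IsCoh F) (J : Ideal A)

omit [Y.Over (Spec (CommRingCat.of A))] in
include hF in
theorem isQCoh_push_modJ (k : ℕ) :
    Coh.IsQCoh ((Scheme.Modules.pushforward f).obj (modJ (J ^ k) F)) :=
  QCoh.isQCoh_pushforward f (isCoh_modJ _ hF).1

include hF in
theorem formal_functions_kernel (n : ℕ) :
    ∃ (m : ℕ) (h : n ≤ m), kernel.ι (cMapJ f hf (J ^ (m + 1)) F) ≫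
      trN J h ((Scheme.Modules.pushforward f).obj F) = 0 := by
  classical
  obtain ⟨s, hs, hcov⟩ := isCompact_iff_finite_and_eq_biUnion_affineOpens.mp
    (show IsCompact ((⊤ : Y.Opens) : Set Y) by simpa using isCompact_univ)
  haveI := hs.to_subtype
  haveI := Fintype.ofFinite s
  have hcov' : ∀ x : Y, ∃ i : s, x ∈ i.1.1 := fun x => by
    have hx : x ∈ (⊤ : Y.Opens) := trivial
    rw [hcov] at hx
    obtain ⟨V, hV, hxV⟩ := by simpa only [Opens.mem_iSup, exists_prop] using hx
    exact ⟨⟨V, hV⟩, hxV⟩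
  choose m hm hK using fun i : s => (formal_functions_affine f hf hF J i.1.2 n).1
  let M := Finset.univ.sup m + n
  refine ⟨M, Nat.le_add_left _ _, ?_⟩
  have hP := isCoh_pushforward_proper f hF
  refine hom_eq_zero_of_cover (QCoh.isQCoh_kernel (isCoh_modJ _ hP).1 (isQCoh_push_modJ f hF J _) _)
    (isCoh_modJ _ hP).1 _ (fun i : s => i.1.1) (fun i => i.1.2) hcov' fun i t => ?_
  haveI : Epi (modJπ (J ^ (M + 1)) ((Scheme.Modules.pushforward f).obj F)) := coequalizer.π_epi
  obtain ⟨y, hy⟩ := QCoh.app_surjective_of_epi hP.1 (isCoh_modJ _ hP).1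
    (modJπ (J ^ (M + 1)) ((Scheme.Modules.pushforward f).obj F)) i.1.2
    ((kernel.ι (cMapJ f hf (J ^ (M + 1)) F)).app i.1.1 t)
  show (trN J (Nat.le_add_left n (Finset.univ.sup m)) _).app i.1.1 ((kernel.ι (cMapJ f hf (J ^ (M + 1)) F)).app i.1.1 t) = 0
  rw [← hy]
  refine (congr($(π_trN J (Nat.le_add_left n (Finset.univ.sup m)) ((Scheme.Modules.pushforward f).obj F)).app i.1.1 y)).trans ?_
  have h0 : (modJπ (J ^ (M + 1)) F).app (f ⁻¹ᵁ i.1.1) y = 0 := by
    refine (congr($(π_cMapJ f hf (J ^ (M + 1)) F).app i.1.1 y)).symm.trans ?_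
    refine (congrArg ((cMapJ f hf (J ^ (M + 1)) F).app i.1.1) hy).trans ?_
    exact congr($(kernel.condition (cMapJ f hf (J ^ (M + 1)) F)).app i.1.1 t)
  have hle : m i ≤ M := le_trans (Finset.le_sup (Finset.mem_univ i)) (Nat.le_add_right _ _)
  refine π_app_eq_zero _ _ _ (hK i y ?_)
  refine (congr($(π_trN J hle F).app (f ⁻¹ᵁ i.1.1) y)).symm.trans ?_
  exact (congrArg ((trN J hle F).app (f ⁻¹ᵁ i.1.1)) h0).trans (map_zero _)

include hF in
theorem formal_functions_image (n : ℕ) :
    ∃ (m : ℕ) (h : n ≤ m), (Scheme.Modules.pushforward f).map (trN J h F) ≫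
      cokernel.π (cMapJ f hf (J ^ (n + 1)) F) = 0 := by
  classical
  obtain ⟨s, hs, hcov⟩ := isCompact_iff_finite_and_eq_biUnion_affineOpens.mp
    (show IsCompact ((⊤ : Y.Opens) : Set Y) by simpa using isCompact_univ)
  haveI := hs.to_subtype
  haveI := Fintype.ofFinite s
  have hcov' : ∀ x : Y, ∃ i : s, x ∈ i.1.1 := fun x => by
    have hx : x ∈ (⊤ : Y.Opens) := trivial
    rw [hcov] at hx
    obtain ⟨V, hV, hxV⟩ := by simpa only [Opens.mem_iSup, exists_prop] using hx
    exact ⟨⟨V, hV⟩, hxV⟩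
  choose m hm hI using fun i : s => (formal_functions_affine f hf hF J i.1.2 n).2
  let M := Finset.univ.sup m + n
  refine ⟨M, Nat.le_add_left _ _, ?_⟩
  have hP := isCoh_pushforward_proper f hF
  refine hom_eq_zero_of_cover (isQCoh_push_modJ f hF J _)
    (QCoh.isQCoh_cokernel (isCoh_modJ _ hP).1 (isQCoh_push_modJ f hF J _) _) _
    (fun i : s => i.1.1) (fun i => i.1.2) hcov' fun i t => ?_
  have hle : m i ≤ M := le_trans (Finset.le_sup (Finset.mem_univ i)) (Nat.le_add_right _ _)
  obtain ⟨y, hy⟩ := hI i ((trN J hle F).app (f ⁻¹ᵁ i.1.1) t)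
  have e : (trN J (Nat.le_add_left n (Finset.univ.sup m)) F).app (f ⁻¹ᵁ i.1.1) t =
      (trN J (hm i) F).app (f ⁻¹ᵁ i.1.1) ((trN J hle F).app (f ⁻¹ᵁ i.1.1) t) :=
    (congr($(trN_trN J (hm i) hle F).app (f ⁻¹ᵁ i.1.1) t)).symm
  show (cokernel.π (cMapJ f hf (J ^ (n + 1)) F)).app i.1.1 ((trN J (Nat.le_add_left n (Finset.univ.sup m)) F).app (f ⁻¹ᵁ i.1.1) t) = 0
  rw [e, ← hy]
  refine (congrArg ((cokernel.π (cMapJ f hf (J ^ (n + 1)) F)).app i.1.1)
    (congr($(π_cMapJ f hf (J ^ (n + 1)) F).app i.1.1 y)).symm).trans ?_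
  exact congr($(cokernel.condition (cMapJ f hf (J ^ (n + 1)) F)).app i.1.1
    ((modJπ (J ^ (n + 1)) ((Scheme.Modules.pushforward f).obj F)).app i.1.1 y))

include hF in
/-- The inverse system of the quotients of the direct image is pro-isomorphic to that of the direct
images of the quotients. -/
theorem exists_ρ (n : ℕ) :
    ∃ (m : ℕ) (h : n ≤ m) (ρ : (Scheme.Modules.pushforward f).obj (modJ (J ^ (m + 1)) F) ⟶
        modJ (J ^ (n + 1)) ((Scheme.Modules.pushforward f).obj F)),
      cMapJ f hf (J ^ (m + 1)) F ≫ ρ = trN J h _ ∧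
        ρ ≫ cMapJ f hf (J ^ (n + 1)) F = (Scheme.Modules.pushforward f).map (trN J h F) := by
  obtain ⟨k, hk, hker⟩ := formal_functions_kernel f hf hF J n
  obtain ⟨m, hm, him⟩ := formal_functions_image f hf hF J k
  let c := cMapJ f hf (J ^ (k + 1)) F
  let b : Abelian.coimage c ⟶ modJ (J ^ (n + 1)) ((Scheme.Modules.pushforward f).obj F) :=
    cokernel.desc _ (trN J hk _) hker
  let l : (Scheme.Modules.pushforward f).obj (modJ (J ^ (m + 1)) F) ⟶ Abelian.image c :=
    kernel.lift _ ((Scheme.Modules.pushforward f).map (trN J hm F)) him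
  let e := Abelian.coimageIsoImage c
  refine ⟨m, hk.trans hm, l ≫ e.inv ≫ b, ?_, ?_⟩
  · have h1 : cMapJ f hf (J ^ (m + 1)) F ≫ l = trN J hm _ ≫ Abelian.coimage.π c ≫ e.hom := by
      rw [← cancel_mono (Abelian.image.ι c)]
      simp only [Category.assoc, l, kernel.lift_ι]
      rw [show Abelian.coimage.π c ≫ e.hom ≫ Abelian.image.ι c = c from
        (by simp [e]), trN_cMapJ]
    rw [reassoc_of% h1, Iso.hom_inv_id_assoc, cokernel.π_desc, trN_trN]
  · have h2 : b ≫ cMapJ f hf (J ^ (n + 1)) F =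
        e.hom ≫ Abelian.image.ι c ≫ (Scheme.Modules.pushforward f).map (trN J hk F) := by
      rw [← cancel_epi (Abelian.coimage.π c), ← Category.assoc]
      refine (congrArg (· ≫ _) (cokernel.π_desc _ _ hker)).trans ?_
      rw [trN_cMapJ]
      simp [e, c]
    rw [Category.assoc, Category.assoc, h2, Iso.inv_hom_id_assoc, kernel.lift_ι_assoc, ← Functor.map_comp,
      trN_trN]

variable {G : ℕᵒᵖ ⥤ Y.Modules} (hG : Formal.IsCohFormal J G)
  (β : (G ⋙ Scheme.Modules.pullback f) ≅ Formal.completion J F)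

omit [AlgebraicGeometry.IsNoetherian Y] [IsProper f] in
theorem uMap_natural {n m : ℕ} (h : n ≤ m) :
    uMap f β m ≫ (Scheme.Modules.pushforward f).map (trN J h F) = ARSys.tr G h ≫ uMap f β n := by
  have hβ := β.hom.naturality (homOfLE h).op
  rw [show (Formal.completion J F).map (homOfLE h).op = ARSys.tr (Formal.completion J F) h from rfl,
    completion_map_le] at hβ
  have hu := (Scheme.Modules.pullbackPushforwardAdjunction f).unit.naturality (ARSys.tr G h)
  show ((Scheme.Modules.pullbackPushforwardAdjunction f).unit.app _ ≫ _) ≫ _ = _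
  rw [Category.assoc, ← Functor.map_comp]
  refine (congrArg (fun t => _ ≫ (Scheme.Modules.pushforward f).map t) hβ.symm).trans ?_
  show (Scheme.Modules.pullbackPushforwardAdjunction f).unit.app _ ≫
    (Scheme.Modules.pushforward f).map ((Scheme.Modules.pullback f).map (ARSys.tr G h) ≫ β.hom.app (op n)) = _
  rw [Functor.map_comp, ← Category.assoc]
  refine Eq.trans ?_ (Category.assoc _ _ _)
  exact congrArg (· ≫ _) hu.symm

include hF hG in
theorem exists_α : ∃ α : G ⟶ Formal.completion J ((Scheme.Modules.pushforward f).obj F),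
    ∀ n, α.app (op n) ≫ cMapJ f hf (J ^ (n + 1)) F = uMap f β n := by
  let P := (Scheme.Modules.pushforward f).obj F
  have hfac : ∀ n, ∃ a : G.obj (op n) ⟶ modJ (J ^ (n + 1)) P, ∃ (N : ℕ) (h : n ≤ N),
      a ≫ cMapJ f hf (J ^ (n + 1)) F = uMap f β n ∧
      ∀ (N' : ℕ) (h' : N ≤ N'), ∃ ρ : (Scheme.Modules.pushforward f).obj (modJ (J ^ (N' + 1)) F) ⟶
        modJ (J ^ (n + 1)) P, cMapJ f hf (J ^ (N' + 1)) F ≫ ρ = trN J (h.trans h') P ∧
          ARSys.tr G (h.trans h') ≫ a = uMap f β N' ≫ ρ := fun n => by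
    obtain ⟨N, h, ρ, hρ1, hρ2⟩ := exists_ρ f hf hF J n
    obtain ⟨a, ha⟩ := Algz7.factor hG h
      (fun x hx => mem_killIdeal.1 (le_killIdeal_modJ _ _ hx)) (uMap f β N ≫ ρ)
    refine ⟨a, N, h, ?_, fun N' h' => ⟨(Scheme.Modules.pushforward f).map (trN J h' F) ≫ ρ, ?_, ?_⟩⟩
    · haveI := Algz7.epi_tr hG h
      rw [← cancel_epi (ARSys.tr G h), reassoc_of% ha, hρ2, uMap_natural]
    · rw [← Category.assoc, ← trN_cMapJ, Category.assoc, hρ1, trN_trN]
    · rw [← Algz7.tr_trans G h h', Category.assoc, ha, ← Category.assoc, ← uMap_natural, Category.assoc]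
  choose a N hN ha hρ using hfac
  have hnat : ∀ n m (h : n ≤ m), a m ≫ trN J h P = ARSys.tr G h ≫ a n := fun n m h => by
    let M := N n + N m
    obtain ⟨ρn, hn1, hn2⟩ := hρ n M (Nat.le_add_right _ _)
    obtain ⟨ρm, hm1, hm2⟩ := hρ m M (Nat.le_add_left _ _)
    obtain ⟨M', hM', him⟩ := formal_functions_image f hf hF J M
    have hnM : n ≤ M' := ((hN n).trans (Nat.le_add_right _ _)).trans hM'
    have hmM : m ≤ M' := ((hN m).trans (Nat.le_add_left _ _)).trans hM'
    haveI := Algz7.epi_tr hG hmM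
    rw [← cancel_epi (ARSys.tr G hmM), ← Category.assoc, ← Category.assoc, Algz7.tr_trans G h hmM,
      ← Algz7.tr_trans G ((hN m).trans (Nat.le_add_left _ _)) hM', Category.assoc, Category.assoc,
      reassoc_of% hm2, ← Algz7.tr_trans G ((hN n).trans (Nat.le_add_right _ _)) hM', Category.assoc, hn2,
      ← reassoc_of% (uMap_natural f J β hM'), ← reassoc_of% (uMap_natural f J β hM')]
    refine congrArg (uMap f β M' ≫ ·) (sub_eq_zero.1 ?_)
    rw [← Preadditive.comp_sub]
    have hd : cMapJ f hf (J ^ (M + 1)) F ≫ (ρm ≫ trN J h P - ρn) = 0 := by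
      rw [Preadditive.comp_sub, reassoc_of% hm1, hn1, trN_trN, sub_self]
    rw [← cokernel.π_desc _ _ hd, ← Category.assoc, him, zero_comp]
  refine ⟨{ app := fun n => a n.unop, naturality := fun {i j} φ => ?_ }, fun n => ha n⟩
  obtain ⟨i⟩ := i
  obtain ⟨j⟩ := j
  show ARSys.tr G (leOfHom φ.unop) ≫ a j = a i ≫ ARSys.tr (Formal.completion J P) (leOfHom φ.unop)
  rw [completion_map_le]
  exact (hnat j i (leOfHom φ.unop)).symm

include hf hF hG β in
theorem push_pull (K : Y.IdealSheafData) (hV : IsIso (f ∣_ K.support.compl)) :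
    ∃ α : G ⟶ Formal.completion J ((Scheme.Modules.pushforward f).obj F),
      Formal2.KerCokerKilledByPow K α := by
  classical
  obtain ⟨α, hα⟩ := exists_α f hf hF J hG β
  refine ⟨α, ?_⟩
  let P := (Scheme.Modules.pushforward f).obj F
  have hP : Coh.IsCoh P := isCoh_pushforward_proper f hF
  obtain ⟨s, hs, hcov⟩ := isCompact_iff_finite_and_eq_biUnion_affineOpens.mp
    (show IsCompact ((⊤ : Y.Opens) : Set Y) by simpa using isCompact_univ)
  haveI := hs.to_subtype
  haveI := Fintype.ofFinite s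
  have hcov' : ∀ x : Y, ∃ i : s, x ∈ i.1.1 := fun x => by
    have hx : x ∈ (⊤ : Y.Opens) := trivial
    rw [hcov] at hx
    obtain ⟨V, hV, hxV⟩ := by simpa only [Opens.mem_iSup, exists_prop] using hx
    exact ⟨⟨V, hV⟩, hxV⟩
  -- exponents for the elements
  have hg : ∀ (V : Y.affineOpens), ∀ g ∈ K.ideal V, ∃ t : ℕ, ∀ n,
      (∀ x : Γ(G.obj (op n), V.1), (α.app (op n)).app V.1 x = 0 → g ^ t • x = 0) ∧
        ∀ z : Γ(modJ (J ^ (n + 1)) P, V.1), ∃ x, (α.app (op n)).app V.1 x = g ^ t • z := by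
    intro V g hgK
    have hle : Y.basicOpen g ≤ K.support.compl := fun x hx hxK => by
      exact absurd hx (by
        have hxV : x ∈ V.1 := Y.basicOpen_le g hx
        have := (Set.ext_iff.1 (K.coe_support_inter V) x).1 ⟨hxK, hxV⟩
        exact fun hx' => (Y.mem_zeroLocus_iff _ _).1 this.1 g hgK hx')
    haveI := hV
    have hiso : IsIso (f ∣_ Y.basicOpen g) := isIso_restrict_of_le f hle
    obtain ⟨t, hcok, hker⟩ := exists_exponent f hf hG hF β V.2 g hiso
    have hcokα : ∀ n, ∀ z : Γ(modJ (J ^ (n + 1)) P, V.1), ∃ x, (α.app (op n)).app V.1 x = g ^ t • z := by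
      intro n z
      obtain ⟨m, hm, hK⟩ := formal_functions_kernel f hf hF J n
      haveI : Epi (modJπ (J ^ (n + 1)) P) := coequalizer.π_epi
      obtain ⟨y, rfl⟩ := QCoh.app_surjective_of_epi hP.1 (isCoh_modJ _ hP).1 (modJπ (J ^ (n + 1)) P) V.2 z
      obtain ⟨x, hx⟩ := hcok m y
      refine ⟨(ARSys.tr G hm).app V.1 x, ?_⟩
      let d : Γ(modJ (J ^ (m + 1)) P, V.1) :=
        (show Γ(modJ (J ^ (m + 1)) P, V.1) from (α.app (op m)).app V.1 x) -
          g ^ t • (modJπ (J ^ (m + 1)) P).app V.1 y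
      have hd : (cMapJ f hf (J ^ (m + 1)) F).app V.1 d = 0 := by
        rw [map_sub, sub_eq_zero]
        refine (congr($(hα m).app V.1 x)).trans (hx.trans ?_)
        rw [Scheme.Modules.Hom.app_smul]
        refine congrArg (g ^ t • ·) ?_
        exact (congr($(π_cMapJ f hf (J ^ (m + 1)) F).app V.1 y)).symm
      obtain ⟨d', hd'⟩ := QCoh.exists_kernel_lift _ V.1 d hd
      have h0 : (trN J hm P).app V.1 d = 0 := by
        rw [← hd']
        exact congr($(hK).app V.1 d')
      rw [map_sub, sub_eq_zero, Scheme.Modules.Hom.app_smul] at h0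
      refine Eq.trans ?_ (h0.trans ?_)
      · have := α.naturality (homOfLE hm).op
        rw [show (Formal.completion J P).map (homOfLE hm).op = ARSys.tr (Formal.completion J P) hm from rfl,
          completion_map_le] at this
        exact congr($(this).app V.1 x)
      · exact congrArg (g ^ t • ·) (congr($(π_trN J hm P).app V.1 y))
    refine ⟨t + t, fun n => ⟨fun x hx => ?_, fun z => ?_⟩⟩
    · obtain ⟨k, hk, hkk⟩ := hker n
      haveI := Algz7.epi_tr hG hk
      obtain ⟨xk, rfl⟩ := QCoh.app_surjective_of_epi (hG.1 k).1 (hG.1 n).1 (ARSys.tr G hk) V.2 x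
      -- a lift of the value
      obtain ⟨y, hy⟩ := by
        haveI : Epi (modJπ (J ^ (k + 1)) P) := coequalizer.π_epi
        exact QCoh.app_surjective_of_epi hP.1 (isCoh_modJ _ hP).1 (modJπ (J ^ (k + 1)) P) V.2
          ((α.app (op k)).app V.1 xk)
      have hαn : (modJπ (J ^ (n + 1)) P).app V.1 y = 0 := by
        refine (congr($(π_trN J hk P).app V.1 y)).symm.trans ?_
        refine (congrArg ((trN J hk P).app V.1) hy).trans ?_
        refine Eq.trans ?_ hx
        have := α.naturality (homOfLE hk).op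
        rw [show (Formal.completion J P).map (homOfLE hk).op = ARSys.tr (Formal.completion J P) hk from rfl,
          completion_map_le] at this
        exact (congr($(this).app V.1 xk)).symm
      have hy' := mem_of_π_app_eq_zero hP.1 (J ^ (n + 1)) V.2 hαn
      obtain ⟨x', hx', hxx⟩ : ∃ x' ∈ (J ^ (n + 1)).map (φsec (A := A) V.1) •
          (⊤ : Submodule Γ(Y, V.1) Γ(G.obj (op k), V.1)),
          (uMap f β k).app V.1 x' = g ^ t • (cMapJ f hf (J ^ (k + 1)) F).app V.1
            ((modJπ (J ^ (k + 1)) P).app V.1 y) := by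
        refine Submodule.smul_induction_on
          (p := fun v => ∃ x' ∈ (J ^ (n + 1)).map (φsec (A := A) V.1) •
            (⊤ : Submodule Γ(Y, V.1) Γ(G.obj (op k), V.1)),
            (uMap f β k).app V.1 x' = g ^ t • (cMapJ f hf (J ^ (k + 1)) F).app V.1
              ((modJπ (J ^ (k + 1)) P).app V.1 v)) hy' (fun c hc v _ => ?_) fun v v' hv hv' => ?_
        · obtain ⟨w, hw⟩ := hcok k v
          refine ⟨c • w, Submodule.smul_mem_smul hc Submodule.mem_top, ?_⟩
          rw [Scheme.Modules.Hom.app_smul, Scheme.Modules.Hom.app_smul, Scheme.Modules.Hom.app_smul, hw,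
            smul_comm]
          refine congrArg (g ^ t • ·) (congrArg (c • ·) ?_)
          exact (congr($(π_cMapJ f hf (J ^ (k + 1)) F).app V.1 v)).symm
        · obtain ⟨w, hw, hww⟩ := hv
          obtain ⟨w', hw', hww'⟩ := hv'
          exact ⟨w + w', add_mem hw hw', by rw [map_add, hww, hww', map_add, map_add, smul_add]⟩
      have h0 : (uMap f β k).app V.1 (g ^ t • xk - x') = 0 := by
        rw [map_sub, Scheme.Modules.Hom.app_smul, hxx, hy, sub_eq_zero]
        exact congrArg (g ^ t • ·) (congr($(hα k).app V.1 xk)).symm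
      have h1 := hkk _ h0
      rw [map_sub, smul_sub, app_eq_zero_of_killed (ARSys.tr G hk)
        (fun a ha => mem_killIdeal.2 (hG.2.1 n a ha)) hx', smul_zero, sub_zero,
        Scheme.Modules.Hom.app_smul, ← mul_smul, ← pow_add] at h1
      exact h1
    · obtain ⟨x, hx⟩ := hcokα n z
      exact ⟨g ^ t • x, by rw [Scheme.Modules.Hom.app_smul, hx, ← mul_smul, ← pow_add]⟩
  -- one exponent
  haveI : ∀ V : Y.affineOpens, IsNoetherianRing Γ(Y, V.1) := fun V => QCoh.noetherian_sections (X := Y) V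
  choose S T N hST hN using fun i : s => exists_pow_killed (IsNoetherian.noetherian (K.ideal i.1))
    (fun g t => ∀ n, (∀ x : Γ(G.obj (op n), i.1.1), (α.app (op n)).app i.1.1 x = 0 → g ^ t • x = 0) ∧
      ∀ z : Γ(modJ (J ^ (n + 1)) P, i.1.1), ∃ x, (α.app (op n)).app i.1.1 x = g ^ t • z) (hg i.1)
  refine ⟨Finset.univ.sup N, fun n => ?_⟩
  have hpow : ∀ i : s, (K ^ (Finset.univ.sup N + 1)).ideal i.1 ≤
      Ideal.span ((fun g => g ^ T i g) '' (S i : Set _)) := fun i => by
    rw [Scheme.IdealSheafData.ideal_pow]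
    exact (Ideal.pow_le_pow_right ((Finset.le_sup (f := N) (Finset.mem_univ i)).trans (Nat.le_succ _))).trans
      (hN i)
  have hQ : Coh.IsQCoh ((Formal.completion J P).obj (op n)) := (isCoh_modJ _ hP).1
  constructor
  · refine killedByIdeal_of_cover (QCoh.isQCoh_kernel (hG.1 n).1 hQ _) _ (fun i : s => i.1) hcov'
      fun i a ha x => QCoh.app_injective (kernel.ι (α.app (op n))) i.1.1 ?_
    rw [Scheme.Modules.Hom.app_smul, map_zero]
    refine Submodule.span_induction (p := fun a _ => a • (kernel.ι (α.app (op n))).app i.1.1 x = 0)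
      ?_ ?_ ?_ ?_ (hpow i ha)
    · rintro _ ⟨g, hgS, rfl⟩
      exact (hST i g hgS n).1 _ (congr($(kernel.condition (α.app (op n))).app i.1.1 x))
    · exact zero_smul _ _
    · intro a b _ _ ha hb; rw [add_smul, ha, hb, add_zero]
    · intro c b _ hb; rw [smul_eq_mul, mul_smul, hb, smul_zero]
  · refine killedByIdeal_of_cover (QCoh.isQCoh_cokernel (hG.1 n).1 hQ _) _ (fun i : s => i.1) hcov'
      fun i a ha z => ?_
    haveI : Epi (cokernel.π (α.app (op n))) := coequalizer.π_epi
    obtain ⟨z, rfl⟩ := QCoh.app_surjective_of_epi hQ (QCoh.isQCoh_cokernel (hG.1 n).1 hQ _)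
      (cokernel.π (α.app (op n))) i.1.2 z
    rw [← Scheme.Modules.Hom.app_smul]
    refine Submodule.span_induction (p := fun a _ => ∀ z, (cokernel.π (α.app (op n))).app i.1.1 (a • z) = 0)
      ?_ ?_ ?_ ?_ (hpow i ha) z
    · rintro _ ⟨g, hgS, rfl⟩ z
      obtain ⟨x, hx⟩ := (hST i g hgS n).2 z
      show (cokernel.π (α.app (op n))).app i.1.1 (g ^ T i g • z) = 0
      erw [← hx]
      exact congr($(cokernel.condition (α.app (op n))).app i.1.1 x)
    · intro z; rw [zero_smul, map_zero]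
    · intro a b _ _ ha hb z; rw [add_smul, map_add, ha, hb, add_zero]
    · intro c b _ hb z; rw [smul_eq_mul, mul_comm, mul_smul]; exact hb _

end Groth.Agent.ExistEasy
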